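import Cfsg.Agent.RankOneClass.UniEight.Check

/-!
The search for `c = 8`, twist exponent 16.
-/

set_option autoImplicit false

namespace Cfsg.Agent.RankOneClass.UniEight

theorem check_8_16 : check 8 16 = true := by decide +kernel

end Cfsg.Agent.RankOneClass.UniEight
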