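import Cfsg.Agent.RankOneClass.UniEight.Sound
import Cfsg.Agent.RankOneClass.UniEight.CheckA
import Cfsg.Agent.RankOneClass.UniEight.CheckB
import Cfsg.Agent.RankOneClass.UniEight.CheckC
import Cfsg.Agent.RankOneClass.UniEight.CheckD

/-!
No data satisfy the equations of the line: reduction to two values of `c` by the squaring
automorphism, then the search.
-/

set_option autoImplicit false

namespace Cfsg.Agent.RankOneClass.UniEight

/-- `c` has a `2 ^ i`-th power among the two representatives. -/
def inOrbit (n : ℕ) : Bool :=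
  (List.range 6).any fun i => powB n (2 ^ i) == 30 || powB n (2 ^ i) == 8

theorem orbit_two : ∀ n < 64, (inOrbit n || check n 2) = true := by decide +kernel

theorem orbit_sixteen : ∀ n < 64, (inOrbit n || check n 16) = true := by decide +kernel

variable {E : Type*} [Field E] [Fintype E] {θ : E}

theorem Eqs.iterate (hM : Model θ) {c : E} {e : ℕ} :
    ∀ {i : ℕ} {C : E} {Y d : E → E}, Eqs c (phi θ betaB) C Y d e →
      ∃ C' Y' d', Eqs (c ^ 2 ^ i) (phi θ betaB) C' Y' d' e := by
  intro i
  induction i with
  | zero => intro C Y d h; exact ⟨C, Y, d, by rwa [pow_zero, pow_one]⟩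
  | succ i ih =>
    intro C Y d h
    obtain ⟨C', Y', d', h'⟩ := ih h
    obtain ⟨d'', h''⟩ := (h'.frob hM.card).shift hM.card h.trace
    exact ⟨_, _, d'', by rw [pow_succ, pow_mul]; exact h''⟩

/-- There is no set of data satisfying the equations. -/
theorem Eqs.false (hE : Fintype.card E = 64) {c β C : E} {Y d : E → E} {e : ℕ}
    (h : Eqs c β C Y d e) : False := by
  obtain ⟨θ, hθ⟩ := exists_theta hE
  have hM : Model θ := ⟨hE, hθ⟩
  have hβ : phi θ betaB + phi θ betaB ^ 8 = 1 := by
    rw [← hM.phi_powB (by decide +kernel) (by norm_num), ← phi_xor hM.two,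
      show betaB ^^^ powB betaB 8 = 1 by decide +kernel, phi_one]
  obtain ⟨d', h'⟩ := h.shift hE hβ
  obtain ⟨n, hn, rfl⟩ := hM.phi_surj c
  have hcase : (inOrbit n || check n e) = true := by
    rcases h.twist with rfl | rfl
    · exact orbit_two n hn
    · exact orbit_sixteen n hn
  rw [check_false hM hn h', Bool.or_false, inOrbit, List.any_eq_true] at hcase
  obtain ⟨i, -, hi⟩ := hcase
  obtain ⟨C', Y', d'', h''⟩ := Eqs.iterate hM (i := i) h'
  rw [← hM.phi_powB hn (pow_ne_zero i (by norm_num))] at h''
  have hf := check_false hM (powB_lt _ _) h''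
  simp only [Bool.or_eq_true, beq_iff_eq] at hi
  rcases hi with hi | hi <;> rw [hi] at hf <;> rcases h.twist with rfl | rfl
  · rw [check_30_2] at hf; exact Bool.noConfusion hf
  · rw [check_30_16] at hf; exact Bool.noConfusion hf
  · rw [check_8_2] at hf; exact Bool.noConfusion hf
  · rw [check_8_16] at hf; exact Bool.noConfusion hf

end Cfsg.Agent.RankOneClass.UniEight
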