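import Mathlib

/-!
Arithmetic of a field with 64 elements on bit vectors: an element is `n < 64`, read as the sum of
`θ ^ i` over the bits `i` of `n`, where `θ ^ 6 + θ ^ 3 + 1 = 0`; `γ = 1 + θ ^ 2` is a generator.
-/

set_option autoImplicit false

namespace Cfsg.Agent.RankOneClass.UniEight

/-- Multiplication by `θ`. -/
def mulTheta (n : ℕ) : ℕ :=
  if 32 ≤ n % 64 then (2 * n % 64) ^^^ 9 else 2 * n % 64

/-- Multiplication by `γ = 1 + θ ^ 2`. -/
def mulGam (n : ℕ) : ℕ := mulTheta (mulTheta n) ^^^ n

/-- The powers of `γ`, six bits each. -/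
def expTab : ℕ := 1072304368832492424824536787254138851345965320885974689070944111614931259471614324833612332789799874145556836192577

/-- The logarithms to base `γ`, six bits each. -/
def logTab : ℕ := 32130529406802738239003098887006098749372042854351761921481482028335002860417468125051860778723105844185415519682560

/-- `γ ^ l`. -/
def expB (l : ℕ) : ℕ := (expTab >>> (6 * (l % 63))) &&& 63

/-- The logarithm to base `γ`. -/
def logB (n : ℕ) : ℕ := (logTab >>> (6 * n)) &&& 63

/-- Multiplication. -/
def mulB (m n : ℕ) : ℕ := if m == 0 || n == 0 then 0 else expB (logB m + logB n)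

/-- Power. -/
def powB (n k : ℕ) : ℕ := if n == 0 then 0 else expB (k * logB n)

end Cfsg.Agent.RankOneClass.UniEight
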