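import Cfsg.Agent.RankOneClass.UniEight.Bits

/-!
The finite search: equivariant row maps are given by one value on each of the three classes of
`x`; the line equations are tested on one class, then two, then three.
-/

set_option autoImplicit false

namespace Cfsg.Agent.RankOneClass.UniEight

/-- The bit vectors of the subfield with eight elements. -/
def eightList : List ℕ := [0, 1, 22, 23, 38, 39, 48, 49]

/-- A fixed element of trace one. -/
def betaB : ℕ := 8

/-- `w + w ^ 8`. -/
def traceB (w : ℕ) : ℕ := w ^^^ powB w 8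

/-- The top row from the bottom row `v` and the shifted coordinate `s`. -/
def topVal (v s : ℕ) : ℕ := mulB s v ^^^ mulB betaB (expB (504 - 8 * logB v))

/-- The top row of the point `(x, y)`, when a listed class representative covers `x`.
A representative is (logarithm, bottom row, shift). -/
def topB (e : ℕ) (reps : List (ℕ × ℕ × ℕ)) (x y : ℕ) : Option ℕ :=
  match reps.find? (fun r => (logB x + 63 - r.1) % 3 == 0) with
  | none => none
  | some r =>
    some (topVal (mulB (expB (e * (logB x + 63 - r.1))) r.2.1)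
      (y ^^^ mulB (expB (3 * (logB x + 63 - r.1))) r.2.2))

/-- First coordinate of a translated line point. -/
def pointX (r : ℕ × ℕ × ℕ) (k : ℕ) : ℕ := 1 ^^^ expB (r.1 + 21 * k)

/-- Second coordinate of a translated line point. -/
def pointY (c d₀ : ℕ) (r : ℕ × ℕ × ℕ) (k : ℕ) : ℕ :=
  d₀ ^^^ r.2.2 ^^^ traceB c ^^^ traceB (mulB c (expB (r.1 + 21 * k)))

/-- One equation. -/
def okPoint (c e d₀ C : ℕ) (reps : List (ℕ × ℕ × ℕ)) (r : ℕ × ℕ × ℕ) (k : ℕ) : Bool :=
  match topB e reps (pointX r k) (pointY c d₀ r k) with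
  | none => true
  | some v => v == C

/-- The equations from the three points of one class. -/
def okRep (c e d₀ C : ℕ) (reps : List (ℕ × ℕ × ℕ)) (r : ℕ × ℕ × ℕ) : Bool :=
  okPoint c e d₀ C reps r 0 && (okPoint c e d₀ C reps r 1 && okPoint c e d₀ C reps r 2)

/-- No third class fits. -/
def checkThree (c e d₀ C l₁ d₁ : ℕ) : Bool :=
  (List.range 63).all fun l₂ =>
    l₂ % 3 == 0 || (l₂ + 63 - l₁) % 3 == 0 || eightList.all fun d₂ =>
      !(okRep c e d₀ C [(0, 1, d₀), (l₁, 2, d₁), (l₂, 4, d₂)] (l₁, 2, d₁) &&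
        okRep c e d₀ C [(0, 1, d₀), (l₁, 2, d₁), (l₂, 4, d₂)] (l₂, 4, d₂))

/-- No second class fits. -/
def checkTwo (c e d₀ C : ℕ) : Bool :=
  (List.range 63).all fun l₁ =>
    l₁ % 3 == 0 || eightList.all fun d₁ =>
      !(okRep c e d₀ C [(0, 1, d₀), (l₁, 2, d₁)] (l₁, 2, d₁)) || checkThree c e d₀ C l₁ d₁

/-- The common value forced by the first class. -/
def firstTop (c e d₀ : ℕ) : ℕ :=
  (topB e [(0, 1, d₀)] (pointX (0, 1, d₀) 1) (pointY c d₀ (0, 1, d₀) 1)).getD 0

/-- The whole search for one `c`. -/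
def check (c e : ℕ) : Bool :=
  eightList.all fun d₀ =>
    !(okPoint c e d₀ (firstTop c e d₀) [(0, 1, d₀)] (0, 1, d₀) 2) ||
      checkTwo c e d₀ (firstTop c e d₀)

end Cfsg.Agent.RankOneClass.UniEight
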