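import Cfsg.Agent.RankOneClass.UniEight.Field64

/-!
The equations of the line `T • p₀`, and the two changes of data used before the search:
a shift of the trace-one element, and the squaring automorphism.
-/

set_option autoImplicit false

namespace Cfsg.Agent.RankOneClass.UniEight

/-- The cocycle with squaring `x ↦ c x ^ 3 + (c x ^ 3) ^ 8`. -/
def bil {E : Type*} [Field E] (c a b : E) : E := c * a ^ 2 * b + (c * a ^ 2 * b) ^ 8

/-- The top row of the point `(x, y)`; the bottom row is `Y x`. -/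
def top {E : Type*} [Field E] (Y d : E → E) (β x y : E) : E :=
  (y + d x) * Y x + β * ((Y x) ^ 8)⁻¹

/-- The data to be excluded. -/
structure Eqs {E : Type*} [Field E] (c β C : E) (Y d : E → E) (e : ℕ) : Prop where
  twist : e = 2 ∨ e = 16
  trace : β + β ^ 8 = 1
  sub : ∀ x, x ≠ 0 → (d x) ^ 8 = d x
  ne : ∀ x, x ≠ 0 → Y x ≠ 0
  inj : ∀ x x', x ≠ 0 → x' ≠ 0 → Y x = Y x' → x = x'
  one : Y 1 = 1
  rowEq : ∀ ξ x, ξ ^ 21 = 1 → x ≠ 0 → Y (ξ * x) = ξ ^ e * Y x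
  shiftEq : ∀ ξ x, ξ ^ 21 = 1 → x ≠ 0 → d (ξ * x) = ξ ^ 3 * d x
  line : ∀ x, x ≠ 0 → x ≠ 1 → (Y x) ^ 9 = 1 →
    top Y d β (1 + x) (d 1 + d x + bil c 1 1 + bil c 1 x) = C

variable {E : Type*} [Field E] [Fintype E]

omit [Fintype E] in
theorem add_pow_eight (h2 : (2 : E) = 0) (a b : E) : (a + b) ^ 8 = a ^ 8 + b ^ 8 := by
  have h : ∀ u v : E, (u + v) ^ 2 = u ^ 2 + v ^ 2 := fun u v => by
    linear_combination u * v * h2
  rw [show (8 : ℕ) = 2 * 2 * 2 by norm_num, pow_mul, pow_mul, h, h, h]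
  ring

/-- Another trace-one element gives another solution. -/
theorem Eqs.shift (hE : Fintype.card E = 64) {c β C : E} {Y d : E → E} {e : ℕ}
    (h : Eqs c β C Y d e) {β' : E} (hβ' : β' + β' ^ 8 = 1) :
    ∃ d', Eqs c β' C Y d' e := by
  have h2 := two_eq_zero hE
  have hdiff : (β + β') ^ 8 = β + β' := by
    rw [add_pow_eight h2]
    linear_combination h.trace + hβ' + (-β - β' + 1) * h2
  refine ⟨fun x => d x + (β + β') * ((Y x) ^ 9)⁻¹, ?_⟩
  refine ⟨h.twist, hβ', fun x hx => ?_, h.ne, h.inj, h.one, h.rowEq, fun ξ x hξ hx => ?_,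
    fun x hx hx1 h9 => ?_⟩
  · show (d x + (β + β') * ((Y x) ^ 9)⁻¹) ^ 8 = d x + (β + β') * ((Y x) ^ 9)⁻¹
    rw [add_pow_eight h2, h.sub x hx, mul_pow, hdiff, inv_pow]
    congr 2
    rw [inv_inj, ← pow_mul, show 9 * 8 = 63 + 9 by norm_num, pow_add,
      pow_sixty_three hE (h.ne x hx), one_mul]
  · show d (ξ * x) + (β + β') * ((Y (ξ * x)) ^ 9)⁻¹ = ξ ^ 3 * (d x + (β + β') * ((Y x) ^ 9)⁻¹)
    have hk : ξ ^ (e * 9) * ξ ^ 3 = 1 := by
      rcases h.twist with rfl | rfl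
      · rw [← pow_add]; exact hξ
      · rw [← pow_add, show 16 * 9 + 3 = 21 * 7 by norm_num, pow_mul, hξ, one_pow]
    rw [h.shiftEq ξ x hξ hx, h.rowEq ξ x hξ hx, mul_pow, ← pow_mul, mul_inv,
      inv_eq_of_mul_eq_one_right hk]
    ring
  · have hline := h.line x hx hx1 h9
    have h0 : (1 : E) + x ≠ 0 := fun h0 => hx1 (by linear_combination h0 - h2)
    have hY : Y (1 + x) ≠ 0 := h.ne _ h0
    have hinv : ((Y (1 + x)) ^ 9)⁻¹ * Y (1 + x) = ((Y (1 + x)) ^ 8)⁻¹ := by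
      field_simp
    simp only [top, h.one, h9, one_pow, inv_one] at hline ⊢
    linear_combination hline + (β + β') * hinv +
      ((β + β') * Y (1 + x) + β' * ((Y (1 + x)) ^ 8)⁻¹) * h2

/-- The squaring automorphism carries a solution to a solution. -/
theorem Eqs.frob (hE : Fintype.card E = 64) {c β C : E} {Y d : E → E} {e : ℕ}
    (h : Eqs c β C Y d e) :
    Eqs (c ^ 2) (β ^ 2) (C ^ 2) (fun x => (Y (x ^ 32)) ^ 2) (fun x => (d (x ^ 32)) ^ 2) e := by
  have h2 := two_eq_zero hE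
  have hsq : ∀ u v : E, (u + v) ^ 2 = u ^ 2 + v ^ 2 := fun u v => by
    linear_combination u * v * h2
  have h64 : ∀ u : E, u ^ 64 = u := fun u => by
    have := FiniteField.pow_card u
    rwa [hE] at this
  have hroot : ∀ u : E, (u ^ 2) ^ 32 = u := fun u => by
    rw [← pow_mul]; exact h64 u
  have hsqr : ∀ u : E, (u ^ 32) ^ 2 = u := fun u => by
    rw [← pow_mul]; exact h64 u
  refine ⟨h.twist, ?_, fun x hx => ?_, fun x hx => ?_, fun x x' hx hx' hxx => ?_, ?_,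
    fun ξ x hξ hx => ?_, fun ξ x hξ hx => ?_, fun x hx hx1 h9 => ?_⟩
  · rw [← pow_mul, mul_comm 2 8, pow_mul, ← hsq, h.trace, one_pow]
  · show ((d (x ^ 32)) ^ 2) ^ 8 = (d (x ^ 32)) ^ 2
    rw [← pow_mul, mul_comm 2 8, pow_mul, h.sub _ (pow_ne_zero _ hx)]
  · exact pow_ne_zero _ (h.ne _ (pow_ne_zero _ hx))
  · have h1 : Y (x ^ 32) = Y (x' ^ 32) := by
      rw [← hroot (Y (x ^ 32)), ← hroot (Y (x' ^ 32))]
      exact congrArg (fun u => u ^ 32) hxx
    have h3 := h.inj _ _ (pow_ne_zero _ hx) (pow_ne_zero _ hx') h1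
    rw [← hsqr x, ← hsqr x', h3]
  · show (Y ((1 : E) ^ 32)) ^ 2 = 1
    rw [one_pow, h.one, one_pow]
  · show (Y ((ξ * x) ^ 32)) ^ 2 = ξ ^ e * (Y (x ^ 32)) ^ 2
    rw [mul_pow, h.rowEq _ _ (by rw [← pow_mul, mul_comm, pow_mul, hξ, one_pow])
      (pow_ne_zero _ hx), mul_pow, ← pow_mul, ← pow_mul, show 32 * (e * 2) = 64 * e by ring, pow_mul, h64]
  · show (d ((ξ * x) ^ 32)) ^ 2 = ξ ^ 3 * (d (x ^ 32)) ^ 2
    rw [mul_pow, h.shiftEq _ _ (by rw [← pow_mul, mul_comm, pow_mul, hξ, one_pow])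
      (pow_ne_zero _ hx), mul_pow, ← pow_mul, ← pow_mul,
      show 32 * 3 * 2 = 64 * 3 by norm_num, pow_mul, h64]
  · obtain ⟨u, rfl⟩ : ∃ u, u ^ 2 = x := ⟨x ^ 32, hsqr x⟩
    have hu : u ≠ 0 := fun h0 => hx (by rw [h0, zero_pow]; norm_num)
    have hu1 : u ≠ 1 := fun h0 => hx1 (by rw [h0, one_pow])
    simp only [hroot] at h9
    have hu9 : (Y u) ^ 9 = 1 := by
      rw [← pow_sixty_three hE (h.ne u hu), show 63 = 2 * 9 * 3 + 9 by norm_num, pow_add,
        pow_mul, pow_mul, h9, one_pow, one_mul]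
    have hline := h.line u hu hu1 hu9
    have h1u : ((1 : E) + u ^ 2) ^ 32 = 1 + u := by
      rw [show (1 : E) + u ^ 2 = (1 + u) ^ 2 by rw [hsq, one_pow], hroot]
    simp only [top, bil] at hline ⊢
    simp only [h1u, hroot, one_pow, mul_one]
    simp only [one_pow, mul_one] at hline
    rw [← hline]
    simp only [hsq, mul_pow, ← pow_mul, inv_pow, Nat.reduceMul]

end Cfsg.Agent.RankOneClass.UniEight
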