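import Cfsg.Agent.RankOneClass.UniEight.Frame
import Cfsg.Agent.RankOneClass.UniEight.Eqs

/-!
The pair of rows attached to every point off the circle.
-/

set_option autoImplicit false

open Subgroup MulAction
open scoped Pointwise

namespace Cfsg.Agent.RankOneClass.UniEight

open Cfsg.Agent.RankOne

universe u v

variable {G : Type u} {Ω : Type v} [Group G] [Finite G] [MulAction G Ω] {a : Ω} {t : G}
  {Q : Subgroup G} {E : Type} [Field E] [Fintype E]

namespace Frame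

variable {S : Sit G a t Q E} (F : Frame S)
include F

/-- `P` has the rows `v`. -/
def Vec (P : Ω) (v : E × E) : Prop :=
  ∃ g ∈ sigGrp G a t, ∃ M : Mat E, S.Rep g M ∧ g • F.p₀ = P ∧ M.app (F.β, 1) = v

theorem vec_base : F.Vec F.p₀ (F.β, 1) :=
  ⟨1, one_mem _, _, S.rep_one, one_smul _ _, Mat.app_id _⟩

theorem vec_exists {P : Ω} (hP : P ∉ line0 G a t) : ∃ v, F.Vec P v := by
  obtain ⟨g, hg, hgP⟩ := S.lines.sig_trans F.p₀ P F.off hP
  obtain ⟨M, hM⟩ := S.exists_rep hg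
  exact ⟨_, g, hg, M, hM, hgP, rfl⟩

theorem vec_off {P : Ω} {v : E × E} (h : F.Vec P v) : P ∉ line0 G a t := by
  obtain ⟨g, hg, M, -, rfl, -⟩ := h
  exact fun hc => F.off ((S.smul_mem_iff hg).1 hc)

theorem vec_unique {P : Ω} {v v' : E × E} (h : F.Vec P v) (h' : F.Vec P v') : v = v' := by
  obtain ⟨g, hg, M, hM, rfl, rfl⟩ := h
  obtain ⟨g', hg', M', hM', he, rfl⟩ := h'
  have h1 := S.lines.sig_free _ (mul_mem (inv_mem hg) hg') F.p₀ F.off (by
    rw [mul_smul, he, inv_smul_smul])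
  obtain rfl := inv_mul_eq_one.1 h1
  rw [hM.unique S hM']

theorem vec_inj {P P' : Ω} {v : E × E} (h : F.Vec P v) (h' : F.Vec P' v) : P = P' := by
  obtain ⟨g, hg, M, hM, rfl, hv⟩ := h
  obtain ⟨g', hg', M', hM', rfl, hv'⟩ := h'
  obtain rfl := S.app_inj hM hM' F.trace (hv.trans hv'.symm)
  rw [S.eq_of_rep hg hg' hM hM']

theorem vec_smul {g : G} (hg : g ∈ sigGrp G a t) {N : Mat E} (hN : S.Rep g N) {P : Ω} {v : E × E}
    (h : F.Vec P v) : F.Vec (g • P) (N.app v) := by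
  obtain ⟨g', hg', M, hM, rfl, rfl⟩ := h
  exact ⟨g * g', mul_mem hg hg', _, hN.mul' S hM, mul_smul _ _ _, Mat.app_mul _ _ _⟩

theorem vec_z {z : G} (hz : z ∈ zGrp G a) {P : Ω} {W Y : E} (h : F.Vec P (W, Y)) :
    F.Vec (z • P) (W + S.co.pz z * Y, Y) := by
  have := F.vec_smul (S.z_mem_sig hz) (S.rep_z hz) h
  simpa [Mat.app] using this

theorem vec_k {k : G} (hk : k ∈ kGrp G a t) {P : Ω} {W Y : E} (h : F.Vec P (W, Y)) :
    F.Vec (k • P) (S.co.chi k ^ 5 * W, S.co.chi k ^ 2 * Y) := by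
  have := F.vec_smul (S.k_mem_sig hk) (S.rep_k hk) h
  simpa [Mat.app] using this

theorem vec_t {P : Ω} {W Y : E} (h : F.Vec P (W, Y)) : F.Vec (t • P) (Y, W) := by
  have := F.vec_smul S.t_mem_sig S.rep_t h
  simpa [Mat.app] using this

theorem vec_det {P : Ω} {W Y : E} (h : F.Vec P (W, Y)) : W * Y ^ 8 + W ^ 8 * Y = 1 := by
  obtain ⟨g, -, M, hM, -, hv⟩ := h
  simp only [Mat.app, mul_one, Prod.mk.injEq] at hv
  obtain ⟨rfl, rfl⟩ := hv
  rw [S.add8, S.add8, mul_pow, mul_pow, hM.p8, hM.q8, hM.r8, hM.s8]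
  linear_combination hM.det + (M.p * M.s + M.q * M.r) * F.trace +
    (M.p * M.r * F.β * F.β ^ 8 + M.q * M.s) * S.two

theorem vec_ne {P : Ω} {W Y : E} (h : F.Vec P (W, Y)) : Y ≠ 0 := by
  intro h0
  have := F.vec_det h
  rw [h0, zero_pow (by norm_num), mul_zero, mul_zero, add_zero] at this
  exact zero_ne_one this

theorem lam_pow_app (i : ℕ) :
    ∃ N, S.Rep (F.g ^ i) N ∧ N.app (F.β, 1) = (F.lam ^ i * F.β, F.lam ^ i) := by
  obtain ⟨N, hN, e⟩ := S.rep_pow_app F.rep (v := (F.β, 1)) (lam := F.lam)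
    (by rw [F.eig, mul_one]) i
  exact ⟨N, hN, by rw [e, mul_one]⟩

theorem lam_isPrimitive : IsPrimitiveRoot F.lam 9 := by
  refine ⟨?_, fun j hj => ?_⟩
  · obtain ⟨N, hN, e⟩ := F.lam_pow_app 9
    have hg9 : F.g ^ 9 = 1 := by rw [← F.g_ord, pow_orderOf_eq_one]
    rw [hg9] at hN
    rw [hN.unique S S.rep_one, Mat.app_id] at e
    exact (congrArg Prod.snd e).symm
  · obtain ⟨N, hN, e⟩ := F.lam_pow_app j
    rw [hj, one_mul] at e
    have e : N.app (F.β, 1) = Mat.id'.app (F.β, 1) := e.trans (Mat.app_id _).symm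
    obtain rfl := S.app_inj hN S.rep_one F.trace e
    rw [← F.g_ord]
    exact orderOf_dvd_of_pow_eq_one (S.eq_of_rep (pow_mem F.g_mem j) (one_mem _) hN S.rep_one)

/-- Each element of `W` multiplies all rows by one scalar. -/
theorem w_scalar {w : G} (hw : w ∈ wGrp G a t) :
    ∃ ω : E, ∀ P W Y, F.Vec P (W, Y) → F.Vec (w • P) (ω * W, ω * Y) := by
  obtain ⟨i, hi⟩ := F.w_act w hw
  obtain ⟨N, hN, e⟩ := F.lam_pow_app i
  refine ⟨F.lam ^ i, fun P W Y h => ?_⟩
  obtain ⟨g, hg, M, hM, rfl, hv⟩ := h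
  refine ⟨g * F.g ^ i, mul_mem hg (pow_mem F.g_mem i), _, hM.mul' S hN, ?_, ?_⟩
  · rw [mul_smul, ← hi, smul_smul, (S.lines.sig_comm g hg w hw).eq, ← smul_smul]
  · rw [Mat.app_mul, e,
      show ((F.lam ^ i * F.β, F.lam ^ i) : E × E) =
        (F.lam ^ i * ((F.β, 1) : E × E).1, F.lam ^ i * ((F.β, 1) : E × E).2) by simp,
      Mat.app_smul, hv]

end Frame

namespace Sit

variable (S : Sit G a t Q E)
include S

open scoped _root_.Classical in
/-- The element of `Q` with coordinates `(x, y)`. -/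
noncomputable def el (x y : E) : G :=
  if h : InEight y then (S.co.surj x y h).choose else 1

theorem el_spec {x y : E} (hy : InEight y) :
    S.el x y ∈ Q ∧ S.co.px (S.el x y) = x ∧ S.co.pz (S.el x y) = y := by
  rw [el, dif_pos hy]
  exact (S.co.surj x y hy).choose_spec

theorem el_off {x y : E} (hx : x ≠ 0) (hy : InEight y) :
    S.el x y • (t • a) ∉ line0 G a t := fun h =>
  hx ((S.el_spec hy).2.1.symm.trans ((S.mem_line_iff (S.el_spec hy).1).1 h))

theorem eight_zero : InEight (0 : E) := zero_pow (by norm_num)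

theorem exists_translate {h : G} (ha : a ∈ h • line0 G a t) :
    ∃ q ∈ Q, h • line0 G a t = q • line0 G a t := by
  haveI := finite_points S.ctx.setup
  obtain ⟨p, hp, hpa⟩ := ha
  have hsig : ∃ g ∈ sigGrp G a t, g • a = p := by
    rcases Ctx.mem_line0.1 hp with rfl | ⟨z, hz, rfl⟩
    · exact ⟨1, one_mem _, one_smul _ _⟩
    · exact ⟨z * t, mul_mem (S.z_mem_sig hz) S.t_mem_sig, mul_smul _ _ _⟩
  obtain ⟨g, hg, hgp⟩ := hsig
  have hfix : h * g ∈ stabilizer G a := by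
    show (h * g) • a = a
    rw [mul_smul, hgp]; exact hpa
  obtain ⟨q, hq, d, hd, e⟩ := stabilizer_split S.ctx.setup hfix
  refine ⟨q, hq, ?_⟩
  have hd' : d • line0 G a t = line0 G a t := by
    ext x
    constructor
    · rintro ⟨y, hy, rfl⟩; exact S.ctx.kGrp_smul_line0 hd hy
    · intro hx
      exact ⟨d⁻¹ • x, S.ctx.kGrp_smul_line0 (inv_mem hd) hx, smul_inv_smul d x⟩
  calc h • line0 G a t = h • g • line0 G a t := by rw [S.lines.sig_line g hg]
    _ = q • d • line0 G a t := by rw [smul_smul, e, smul_smul]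
    _ = q • line0 G a t := by rw [hd']

end Sit

namespace Frame

variable {S : Sit G a t Q E} (F : Frame S)
include F

open scoped _root_.Classical in
/-- The rows of a point. -/
noncomputable def rows (P : Ω) : E × E :=
  if h : P ∉ line0 G a t then (F.vec_exists h).choose else 0

theorem rows_spec {P : Ω} (h : P ∉ line0 G a t) : F.Vec P (F.rows P) := by
  rw [rows, dif_pos h]
  exact (F.vec_exists h).choose_spec

/-- The bottom row. -/
noncomputable def bot (x : E) : E := (F.rows (S.el x 0 • (t • a))).2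

/-- The shift. -/
noncomputable def shift (x : E) : E :=
  ((F.rows (S.el x 0 • (t • a))).1 + F.β * (F.bot x ^ 8)⁻¹) / F.bot x

theorem bot_ne {x : E} (hx : x ≠ 0) : F.bot x ≠ 0 :=
  F.vec_ne (F.rows_spec (S.el_off hx S.eight_zero))

theorem shift_eight {x : E} (hx : x ≠ 0) : InEight (F.shift x) := by
  have hY := F.bot_ne hx
  have hdet : (F.rows (S.el x 0 • (t • a))).1 * F.bot x ^ 8 +
      (F.rows (S.el x 0 • (t • a))).1 ^ 8 * F.bot x = 1 :=
    F.vec_det (F.rows_spec (S.el_off hx S.eight_zero))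
  show F.shift x ^ 8 = F.shift x
  unfold shift
  rw [div_pow, S.add8, mul_pow, inv_pow, S.bar_bar, div_eq_div_iff (pow_ne_zero 8 hY) hY]
  set W := (F.rows (S.el x 0 • (t • a))).1
  set Y := F.bot x
  field_simp
  linear_combination hdet + F.trace - (W * Y ^ 8 + F.β) * S.two + S.two

/-- The rows of `(x, y)`. -/
theorem vec_point {u : G} (hu : u ∈ Q) (hx : S.co.px u ≠ 0) :
    F.Vec (u • (t • a)) (top F.bot F.shift F.β (S.co.px u) (S.co.pz u), F.bot (S.co.px u)) := by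
  have hy : InEight (S.co.pz u) := S.co.pz_fix u hu
  obtain ⟨hel, helx, hely⟩ := S.el_spec (x := S.co.px u) S.eight_zero
  obtain ⟨hz, hzp⟩ := S.zel_spec hy
  have he : u = S.zel (S.co.pz u) * S.el (S.co.px u) 0 := by
    refine S.co.inj u hu _ (Q.mul_mem (S.ctx.zGrp_le hz) hel) ?_ ?_
    · rw [(S.pz_z_mul hz hel).1, helx]
    · rw [(S.pz_z_mul hz hel).2, hzp, hely, add_zero]
  have hvec := F.vec_z hz (F.rows_spec (S.el_off hx S.eight_zero) : F.Vec _
    ((F.rows (S.el (S.co.px u) 0 • (t • a))).1, F.bot (S.co.px u)))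
  rw [hzp, smul_smul, ← he] at hvec
  have key : top F.bot F.shift F.β (S.co.px u) (S.co.pz u) =
      (F.rows (S.el (S.co.px u) 0 • (t • a))).1 + S.co.pz u * F.bot (S.co.px u) := by
    rw [top, shift, add_mul, div_mul_cancel₀ _ (F.bot_ne hx)]
    linear_combination F.β * (F.bot (S.co.px u) ^ 8)⁻¹ * S.two
  rw [key]
  exact hvec

theorem bot_inj {x x' : E} (hx : x ≠ 0) (hx' : x' ≠ 0) (h : F.bot x = F.bot x') : x = x' := by
  set P := S.el x 0 • (t • a)
  have hv : F.Vec P ((F.rows P).1, F.bot x) := F.rows_spec (S.el_off hx S.eight_zero)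
  set P' := S.el x' 0 • (t • a)
  have hv' : F.Vec P' ((F.rows P').1, F.bot x') := F.rows_spec (S.el_off hx' S.eight_zero)
  rw [← h] at hv'
  set Y := F.bot x
  set W := (F.rows P).1
  set W' := (F.rows P').1
  have hY : Y ≠ 0 := F.vec_ne hv
  have hζ : InEight ((W + W') / Y) := by
    show _ ^ 8 = _
    rw [div_pow, S.add8, div_eq_div_iff (pow_ne_zero 8 hY) hY]
    linear_combination F.vec_det hv + F.vec_det hv' - (W * Y ^ 8 + W' * Y ^ 8 - 1) * S.two
  obtain ⟨hz, hzp⟩ := S.zel_spec hζ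
  have h2 := F.vec_z hz hv'
  rw [hzp, div_mul_cancel₀ _ hY, show W' + (W + W') = W by linear_combination W' * S.two] at h2
  have h3 := F.vec_inj hv h2
  obtain ⟨hel, helx, -⟩ := S.el_spec (x := x) S.eight_zero
  obtain ⟨hel', helx', -⟩ := S.el_spec (x := x') S.eight_zero
  have := Q_smul_inj S.ctx.setup hel (Q.mul_mem (S.ctx.zGrp_le hz) hel') (t_smul_ne S.ctx.setup)
    (h3.trans (smul_smul _ _ _))
  rw [← helx, this, (S.pz_z_mul hz hel').1, helx']

end Frame

end Cfsg.Agent.RankOneClass.UniEight
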