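import Cfsg.Agent.RankOneClass.UniEight.Bits

/-!
A field with 64 elements is the bit-vector field: semantics of the operations of `Bits`.
-/

set_option autoImplicit false

namespace Cfsg.Agent.RankOneClass.UniEight

variable {E : Type*} [Field E]

section Finite

variable [Fintype E]

theorem two_eq_zero (hE : Fintype.card E = 64) : (2 : E) = 0 := by
  have h : ((Fintype.card E : ℕ) : E) = 0 := Nat.cast_card_eq_zero E
  rw [hE, show (64 : ℕ) = 2 ^ 6 by norm_num, Nat.cast_pow] at h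
  simpa using pow_eq_zero_iff (n := 6) (by norm_num) |>.1 h

theorem pow_sixty_three (hE : Fintype.card E = 64) {x : E} (hx : x ≠ 0) : x ^ 63 = 1 := by
  have h := FiniteField.pow_card_sub_one_eq_one x hx
  rwa [hE] at h

/-- Some element satisfies `θ ^ 6 + θ ^ 3 + 1 = 0`. -/
theorem exists_theta (hE : Fintype.card E = 64) : ∃ θ : E, θ ^ 6 + θ ^ 3 + 1 = 0 := by
  classical
  obtain ⟨g, hg⟩ := IsCyclic.exists_ofOrder_eq_natCard (α := Eˣ)
  have hcard : orderOf g = 63 := by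
    rw [hg, Nat.card_eq_fintype_card, Fintype.card_units, hE]
  have hge : orderOf (g : E) = 63 := by rw [orderOf_units, hcard]
  refine ⟨(g : E) ^ 7, ?_⟩
  have h9 : ((g : E) ^ 7) ^ 9 = 1 := by
    rw [← pow_mul, show 7 * 9 = orderOf (g : E) by rw [hge], pow_orderOf_eq_one]
  have h3 : ((g : E) ^ 7) ^ 3 ≠ 1 := by
    rw [← pow_mul]
    exact pow_ne_one_of_lt_orderOf (by norm_num) (by rw [hge]; norm_num)
  have hfac : (((g : E) ^ 7) ^ 6 + ((g : E) ^ 7) ^ 3 + 1) * (((g : E) ^ 7) ^ 3 - 1) = 0 := by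
    linear_combination h9
  exact (mul_eq_zero.1 hfac).resolve_right (sub_ne_zero.2 h3)

end Finite

/-- Value of a bit. -/
def bitVal (E : Type*) [Field E] (b : Bool) : E := if b then 1 else 0

/-- The element named by a bit vector. -/
def phi (θ : E) (n : ℕ) : E := ∑ i ∈ Finset.range 6, bitVal E (n.testBit i) * θ ^ i

/-- A number from six bits. -/
def ofBits (b₀ b₁ b₂ b₃ b₄ b₅ : Bool) : ℕ :=
  b₀.toNat + 2 * b₁.toNat + 4 * b₂.toNat + 8 * b₃.toNat + 16 * b₄.toNat + 32 * b₅.toNat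

variable {θ : E}

theorem bitVal_xor (h2 : (2 : E) = 0) (a b : Bool) :
    bitVal E (a ^^ b) = bitVal E a + bitVal E b := by
  cases a <;> cases b <;> simp [bitVal]
  linear_combination -h2

theorem phi_xor (h2 : (2 : E) = 0) (m n : ℕ) : phi θ (m ^^^ n) = phi θ m + phi θ n := by
  unfold phi
  rw [← Finset.sum_add_distrib]
  refine Finset.sum_congr rfl fun i _ => ?_
  rw [Nat.testBit_xor, bitVal_xor h2, add_mul]

theorem phi_zero : phi θ 0 = 0 := by simp [phi, bitVal]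

theorem phi_one : phi θ 1 = 1 := by
  simp [phi, bitVal, Finset.sum_range_succ, Nat.testBit, Nat.shiftRight_eq_div_pow]

theorem testBit_ofBits : ∀ b₀ b₁ b₂ b₃ b₄ b₅ : Bool,
    (ofBits b₀ b₁ b₂ b₃ b₄ b₅).testBit 0 = b₀ ∧ (ofBits b₀ b₁ b₂ b₃ b₄ b₅).testBit 1 = b₁ ∧
    (ofBits b₀ b₁ b₂ b₃ b₄ b₅).testBit 2 = b₂ ∧ (ofBits b₀ b₁ b₂ b₃ b₄ b₅).testBit 3 = b₃ ∧
    (ofBits b₀ b₁ b₂ b₃ b₄ b₅).testBit 4 = b₄ ∧ (ofBits b₀ b₁ b₂ b₃ b₄ b₅).testBit 5 = b₅ := by
  decide +kernel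

theorem phi_ofBits (b₀ b₁ b₂ b₃ b₄ b₅ : Bool) :
    phi θ (ofBits b₀ b₁ b₂ b₃ b₄ b₅) = bitVal E b₀ + bitVal E b₁ * θ + bitVal E b₂ * θ ^ 2 +
      bitVal E b₃ * θ ^ 3 + bitVal E b₄ * θ ^ 4 + bitVal E b₅ * θ ^ 5 := by
  obtain ⟨h0, h1, h2, h3, h4, h5⟩ := testBit_ofBits b₀ b₁ b₂ b₃ b₄ b₅
  simp [phi, Finset.sum_range_succ, h0, h1, h2, h3, h4, h5]

theorem mulTheta_ofBits : ∀ b₀ b₁ b₂ b₃ b₄ b₅ : Bool,
    mulTheta (ofBits b₀ b₁ b₂ b₃ b₄ b₅) = ofBits b₅ b₀ b₁ (b₂ ^^ b₅) b₃ b₄ := by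
  decide +kernel

theorem eq_ofBits : ∀ n < 64, n = ofBits (n.testBit 0) (n.testBit 1) (n.testBit 2) (n.testBit 3)
    (n.testBit 4) (n.testBit 5) := by
  decide +kernel

theorem phi_mulTheta (h2 : (2 : E) = 0) (hθ : θ ^ 6 + θ ^ 3 + 1 = 0) {n : ℕ} (hn : n < 64) :
    phi θ (mulTheta n) = θ * phi θ n := by
  rw [eq_ofBits n hn, mulTheta_ofBits, phi_ofBits, phi_ofBits, bitVal_xor h2]
  linear_combination (-bitVal E (n.testBit 5)) * hθ +
    bitVal E (n.testBit 5) * (θ ^ 3 + 1) * h2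

theorem mulTheta_lt : ∀ n < 64, mulTheta n < 64 := by decide +kernel

theorem expB_lt (l : ℕ) : expB l < 64 :=
  Nat.lt_succ_of_le Nat.and_le_right

theorem expB_mod (l : ℕ) : expB (l % 63) = expB l := by
  simp [expB]

theorem expB_succ : ∀ j < 63, expB (j + 1) = mulGam (expB j) := by decide +kernel

theorem expB_logB : ∀ n < 64, n ≠ 0 → expB (logB n) = n ∧ logB n < 63 := by decide +kernel

theorem logB_expB' : ∀ l < 63, logB (expB l) = l := by decide +kernel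

theorem expB_ne_zero' : ∀ l < 63, expB l ≠ 0 := by decide +kernel

theorem expB_ne_zero (l : ℕ) : expB l ≠ 0 := by
  rw [← expB_mod]
  exact expB_ne_zero' _ (Nat.mod_lt _ (by norm_num))

theorem logB_expB (l : ℕ) : logB (expB l) = l % 63 := by
  rw [← expB_mod]
  exact logB_expB' _ (Nat.mod_lt _ (by norm_num))

variable [Fintype E]

/-- The data of a bit-vector model of `E`. -/
structure Model (θ : E) : Prop where
  card : Fintype.card E = 64
  root : θ ^ 6 + θ ^ 3 + 1 = 0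

namespace Model

variable (hM : Model θ)
include hM

theorem two : (2 : E) = 0 := two_eq_zero hM.card

theorem theta_nine : θ ^ 9 = 1 := by linear_combination (θ ^ 3 - 1) * hM.root

theorem theta_three_ne : θ ^ 3 ≠ 1 := by
  intro h
  have h1 : (1 : E) = 0 := by
    linear_combination hM.root - (θ ^ 3 + 2) * h - hM.two
  exact one_ne_zero h1

theorem gam_ne : (1 + θ ^ 2 : E) ≠ 0 := by
  intro h
  have h2 : θ ^ 2 = 1 := by linear_combination h - hM.two
  have h1 : θ = 1 := by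
    linear_combination hM.theta_nine - θ * (θ ^ 6 + θ ^ 4 + θ ^ 2 + 1) * h2
  exact hM.theta_three_ne (by rw [h1, one_pow])

theorem phi_expB_lt : ∀ {j : ℕ}, j ≤ 63 → phi θ (expB j) = (1 + θ ^ 2) ^ j := by
  intro j
  induction j with
  | zero =>
    intro _
    rw [show expB 0 = 1 by decide +kernel, phi_one, pow_zero]
  | succ j ih =>
    intro hj
    have hlt := expB_lt j
    rw [expB_succ j (by omega), mulGam, phi_xor hM.two, phi_mulTheta hM.two hM.root
      (mulTheta_lt _ hlt), phi_mulTheta hM.two hM.root hlt, ih (by omega)]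
    ring

theorem gam_pow_mod (l : ℕ) : (1 + θ ^ 2 : E) ^ l = (1 + θ ^ 2) ^ (l % 63) := by
  conv_lhs => rw [← Nat.div_add_mod l 63, pow_add, pow_mul,
    pow_sixty_three hM.card hM.gam_ne, one_pow, one_mul]

theorem phi_expB (l : ℕ) : phi θ (expB l) = (1 + θ ^ 2) ^ l := by
  rw [← expB_mod, hM.phi_expB_lt (Nat.mod_lt l (by norm_num)).le, ← hM.gam_pow_mod]

theorem phi_ne_zero {n : ℕ} (hn : n < 64) (h : n ≠ 0) : phi θ n ≠ 0 := by
  rw [← (expB_logB n hn h).1, hM.phi_expB]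
  exact pow_ne_zero _ hM.gam_ne

theorem phi_inj {m n : ℕ} (hm : m < 64) (hn : n < 64) (h : phi θ m = phi θ n) : m = n := by
  by_contra hne
  have hx : m ^^^ n ≠ 0 := fun h0 => hne (Nat.xor_eq_zero_iff.1 h0)
  have hlt : m ^^^ n < 64 := Nat.xor_lt_two_pow (n := 6) hm hn
  apply hM.phi_ne_zero hlt hx
  rw [phi_xor hM.two, h]
  linear_combination phi θ n * hM.two

theorem phi_surj (x : E) : ∃ n, n < 64 ∧ phi θ n = x := by
  have hinj : Function.Injective (fun n : Fin 64 => phi θ (n : ℕ)) := fun m n h =>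
    Fin.ext (hM.phi_inj m.2 n.2 h)
  have hb := (Fintype.bijective_iff_injective_and_card _).2 ⟨hinj, by simp [hM.card]⟩
  obtain ⟨n, hn⟩ := hb.2 x
  exact ⟨n, n.2, hn⟩

theorem phi_mulB {m n : ℕ} (hm : m < 64) (hn : n < 64) :
    phi θ (mulB m n) = phi θ m * phi θ n := by
  unfold mulB
  rcases eq_or_ne m 0 with rfl | h1
  · simp [phi_zero]
  rcases eq_or_ne n 0 with rfl | h2
  · simp [phi_zero]
  rw [if_neg (by simp [h1, h2]), hM.phi_expB, pow_add, ← hM.phi_expB, ← hM.phi_expB,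
    (expB_logB m hm h1).1, (expB_logB n hn h2).1]

theorem phi_powB {n : ℕ} (hn : n < 64) {k : ℕ} (hk : k ≠ 0) :
    phi θ (powB n k) = phi θ n ^ k := by
  unfold powB
  rcases eq_or_ne n 0 with rfl | h1
  · simp [phi_zero, zero_pow hk]
  rw [if_neg (by simp [h1]), hM.phi_expB, mul_comm, pow_mul, ← hM.phi_expB,
    (expB_logB n hn h1).1]

/-- Logarithms. -/
theorem exists_log {x : E} (hx : x ≠ 0) : ∃ l, l < 63 ∧ (1 + θ ^ 2) ^ l = x := by
  obtain ⟨n, hn, rfl⟩ := hM.phi_surj x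
  have hne : n ≠ 0 := fun h => hx (by rw [h, phi_zero])
  obtain ⟨h1, h2⟩ := expB_logB n hn hne
  exact ⟨logB n, h2, by rw [← hM.phi_expB, h1]⟩

theorem log_unique {a b : ℕ} (h : (1 + θ ^ 2 : E) ^ a = (1 + θ ^ 2) ^ b) : a % 63 = b % 63 := by
  rw [← hM.phi_expB, ← hM.phi_expB] at h
  rw [← logB_expB, ← logB_expB, hM.phi_inj (expB_lt a) (expB_lt b) h]

end Model

theorem mulB_lt (m n : ℕ) : mulB m n < 64 := by
  unfold mulB; split
  · norm_num
  · exact expB_lt _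

theorem powB_lt (n k : ℕ) : powB n k < 64 := by
  unfold powB; split
  · norm_num
  · exact expB_lt _

theorem xor_lt {m n : ℕ} (hm : m < 64) (hn : n < 64) : m ^^^ n < 64 :=
  Nat.xor_lt_two_pow (n := 6) hm hn

end Cfsg.Agent.RankOneClass.UniEight
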