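import Cfsg.Agent.RankOneClass.UniEight.Rep

/-!
A base point off the circle with a torus whose eigenvector is `(β, 1)`, `β + β ^ 8 = 1`, and the
resulting coordinates of the points off the circle.
-/

set_option autoImplicit false

open Subgroup MulAction
open scoped Pointwise

namespace Cfsg.Agent.RankOneClass.UniEight

open Cfsg.Agent.RankOne

universe u v

variable {G : Type u} {Ω : Type v} [Group G] [Finite G] [MulAction G Ω] {a : Ω} {t : G}
  {Q : Subgroup G} {E : Type} [Field E] [Fintype E]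

theorem exists_half : ∀ n < 64, powB n 8 = n →
    ((List.range 64).any fun x => powB x 2 ^^^ x == n) = true := by
  decide +kernel

/-- A base point with its torus. -/
structure Frame (S : Sit G a t Q E) where
  p₀ : Ω
  off : p₀ ∉ line0 G a t
  g : G
  g_mem : g ∈ sigGrp G a t
  g_ord : orderOf g = 9
  β : E
  trace : β + β ^ 8 = 1
  lam : E
  M : Mat E
  rep : S.Rep g M
  eig : M.app (β, 1) = (lam * β, lam)
  w_act : ∀ w ∈ wGrp G a t, ∃ i : ℕ, w • p₀ = g ^ i • p₀
  line : ∃ h : G, ∀ i : ℕ, g ^ i • p₀ ∈ h • line0 G a t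

namespace Sit

variable (S : Sit G a t Q E)
include S

theorem smul_mem_iff {g : G} (hg : g ∈ sigGrp G a t) {P : Ω} :
    g • P ∈ line0 G a t ↔ P ∈ line0 G a t := by
  constructor
  · intro h
    rw [← S.lines.sig_line g hg] at h
    exact Set.smul_mem_smul_set_iff.1 h
  · intro h
    rw [← S.lines.sig_line g hg]
    exact Set.smul_mem_smul_set h

theorem mem_line_iff {u : G} (hu : u ∈ Q) :
    u • (t • a) ∈ line0 G a t ↔ S.co.px u = 0 := by
  constructor
  · intro h
    rcases Ctx.mem_line0.1 h with h | ⟨z, hz, h⟩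
    · exact absurd h (Q_smul_ne S.ctx.setup hu (t_smul_ne S.ctx.setup))
    · rw [← Q_smul_inj S.ctx.setup (S.ctx.zGrp_le hz) hu (t_smul_ne S.ctx.setup) h]
      exact S.px_z hz
  · intro h
    exact Ctx.mem_line0.2 (Or.inr ⟨u, (S.mem_z_iff hu).2 h, rfl⟩)

theorem exists_quad {u' : E} (hu : InEight u') {q' r' : E} (hq : InEight q') (hr : InEight r')
    (hr0 : r' ≠ 0) : ∃ x : E, r' * x ^ 2 + u' * x + q' = 0 := by
  by_cases hu0 : u' = 0
  · refine ⟨(q' / r') ^ 4, ?_⟩
    have h8 : ((q' / r') ^ 4) ^ 2 = q' / r' := by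
      rw [← pow_mul, show 4 * 2 = 8 by norm_num, div_pow, hq, hr]
    rw [h8, hu0, mul_div_cancel₀ _ hr0]
    linear_combination q' * S.two
  · obtain ⟨θ, hθ⟩ := exists_theta S.co.card_E
    have hM : Model θ := ⟨S.co.card_E, hθ⟩
    obtain ⟨n, hn, hphi⟩ := hM.phi_surj (q' * r' / u' ^ 2)
    have h8 : phi θ n ^ 8 = phi θ n := by
      rw [hphi, div_pow, mul_pow, hq, hr, ← pow_mul, mul_comm 2 8, pow_mul, hu]
    rw [← hM.phi_powB hn (by norm_num)] at h8
    obtain ⟨y, hy, hye⟩ := List.any_eq_true.1 (exists_half n hn (hM.phi_inj (powB_lt _ _) hn h8))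
    rw [beq_iff_eq] at hye
    have hy64 : y < 64 := List.mem_range.1 hy
    have he : phi θ y ^ 2 + phi θ y = q' * r' / u' ^ 2 := by
      rw [← hphi, ← hM.phi_powB hy64 two_ne_zero, ← phi_xor S.two, hye]
    refine ⟨u' / r' * phi θ y, ?_⟩
    have he' : u' ^ 2 * (phi θ y ^ 2 + phi θ y) = q' * r' := by
      rw [he]; field_simp
    rw [show r' * (u' / r' * phi θ y) ^ 2 + u' * (u' / r' * phi θ y) =
      u' ^ 2 * (phi θ y ^ 2 + phi θ y) / r' by field_simp, he', mul_div_cancel_right₀ _ hr0]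
    linear_combination q' * S.two

theorem rep_pow_app {g : G} {M : Mat E} (h : S.Rep g M) {v : E × E} {lam : E}
    (hv : M.app v = (lam * v.1, lam * v.2)) :
    ∀ i : ℕ, ∃ N, S.Rep (g ^ i) N ∧ N.app v = (lam ^ i * v.1, lam ^ i * v.2) := by
  intro i
  induction i with
  | zero => exact ⟨_, (pow_zero g).symm ▸ S.rep_one, by simp [Mat.app_id]⟩
  | succ i ih =>
    obtain ⟨N, hN, hN'⟩ := ih
    refine ⟨_, (pow_succ g i).symm ▸ hN.mul' S h, ?_⟩
    rw [Mat.app_mul, hv, Mat.app_smul, hN', pow_succ]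
    simp only [Prod.mk.injEq]
    constructor <;> ring

theorem app_inj {g : G} {M : Mat E} (h : S.Rep g M) {g' : G} {N : Mat E} (h' : S.Rep g' N) {β : E}
    (hβ : β + β ^ 8 = 1) (he : M.app (β, 1) = N.app (β, 1)) : M = N := by
  have key : ∀ x y x' y' : E, InEight x → InEight y → InEight x' → InEight y' →
      x * β + y = x' * β + y' → x = x' ∧ y = y' := by
    intro x y x' y' hx hy hx' hy' he
    have h8 := congrArg (· ^ 8) he
    rw [S.add8, S.add8, mul_pow, mul_pow, hx, hy, hx', hy'] at h8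
    have hxx : x = x' := by
      linear_combination h8 + he - (x - x') * hβ + (y' - y) * S.two
    exact ⟨hxx, by linear_combination he - β * hxx⟩
  have e1 : M.p * β + M.q = N.p * β + N.q := by simpa [Mat.app] using congrArg Prod.fst he
  have e2 : M.r * β + M.s = N.r * β + N.s := by simpa [Mat.app] using congrArg Prod.snd he
  obtain ⟨hp, hq⟩ := key _ _ _ _ h.p8 h.q8 h'.p8 h'.q8 e1
  obtain ⟨hr, hs⟩ := key _ _ _ _ h.r8 h.s8 h'.r8 h'.s8 e2
  exact Mat.ext hp hq hr hs

theorem not_involutive {g : G} (hg : g ∈ sigGrp G a t) (ho : orderOf g = 9) {M : Mat E}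
    (h : S.Rep g M) : M.mul M ≠ Mat.id' := by
  intro he
  have h2 := S.eq_of_rep (mul_mem hg hg) (one_mem _) (he ▸ h.mul' S h) S.rep_one
  have : orderOf g ∣ 2 := orderOf_dvd_of_pow_eq_one (by rw [pow_two]; exact h2)
  rw [ho] at this
  norm_num at this

theorem one_of_eight_nine {x : E} (h8 : InEight x) (h9 : x ^ 9 = 1) : x = 1 := by
  refine S.sq_eq_one ?_
  rw [← h9, pow_succ x 8, (h8 : x ^ 8 = x), pow_two]

theorem exists_eigen {g : G} (hg : g ∈ sigGrp G a t) (ho : orderOf g = 9) {M : Mat E}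
    (h : S.Rep g M) : ∃ β lam : E, β + β ^ 8 ≠ 0 ∧ M.app (β, 1) = (lam * β, lam) := by
  have h9 : g ^ 9 = 1 := ho ▸ pow_orderOf_eq_one g
  have hpow : ∀ v : E × E, ∀ lam : E, M.app v = (lam * v.1, lam * v.2) →
      lam ^ 9 * v.1 = v.1 ∧ lam ^ 9 * v.2 = v.2 := by
    intro v lam hv
    obtain ⟨N, hN, hN'⟩ := S.rep_pow_app h hv 9
    rw [h9] at hN
    rw [hN.unique S S.rep_one, Mat.app_id] at hN'
    exact ⟨(congrArg Prod.fst hN').symm, (congrArg Prod.snd hN').symm⟩
  have hr0 : M.r ≠ 0 := by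
    intro hr
    have hp9 : M.p ^ 9 = 1 := by
      simpa using (hpow (1, 0) M.p (by simp [Mat.app, hr])).1
    have hp1 := S.one_of_eight_nine h.p8 hp9
    have hs1 : M.s = 1 := by
      have := h.det; rw [hr, hp1] at this; linear_combination this
    refine S.not_involutive hg ho h (Mat.ext ?_ ?_ ?_ ?_)
    · show M.p * M.p + M.q * M.r = 1
      rw [hr, hp1]; ring
    · show M.p * M.q + M.q * M.s = 0
      rw [hp1, hs1]; linear_combination M.q * S.two
    · show M.r * M.p + M.s * M.r = 0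
      rw [hr]; ring
    · show M.r * M.q + M.s * M.s = 1
      rw [hr, hs1]; ring
  obtain ⟨β, hβ⟩ := S.exists_quad (S.eight_add h.p8 h.s8) h.q8 h.r8 hr0
  have heig : M.app (β, 1) = ((M.r * β + M.s) * β, M.r * β + M.s) := by
    simp only [Mat.app, mul_one, Prod.mk.injEq, and_true]
    linear_combination hβ - (M.r * β ^ 2 + M.s * β) * S.two
  refine ⟨β, M.r * β + M.s, fun h0 => ?_, heig⟩
  have hb8 : InEight β := by
    show β ^ 8 = β
    linear_combination h0 - β * S.two
  have hl9 : (M.r * β + M.s) ^ 9 = 1 := by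
    simpa using (hpow (β, 1) _ (by rw [heig, mul_one])).2
  have hl1 := S.one_of_eight_nine (S.eight_add (S.eight_mul h.r8 hb8) h.s8) hl9
  have hps : M.p = M.s := by
    have hdet : (M.r * β + M.p) * (M.r * β + M.s) = 1 := by
      linear_combination h.det + M.r * hβ - M.q * M.r * S.two
    rw [hl1, mul_one] at hdet
    linear_combination hdet - hl1
  refine S.not_involutive hg ho h (Mat.ext ?_ ?_ ?_ ?_)
  · show M.p * M.p + M.q * M.r = 1
    have := h.det; rw [← hps] at this; exact this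
  · show M.p * M.q + M.q * M.s = 0
    rw [hps]; linear_combination M.q * M.s * S.two
  · show M.r * M.p + M.s * M.r = 0
    rw [hps]; linear_combination M.r * M.s * S.two
  · show M.r * M.q + M.s * M.s = 1
    have := h.det; rw [hps] at this; linear_combination this

theorem exists_frame : Nonempty (Frame S) := by
  obtain ⟨u, hu, hux, -⟩ := S.co.surj 1 0 (zero_pow (by norm_num))
  have hoff : u • (t • a) ∉ line0 G a t := fun h => by
    rw [S.mem_line_iff hu, hux] at h; exact one_ne_zero h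
  obtain ⟨T, hTs, hTc, hT9, hTw, h, hh⟩ := S.lines.torus _ hoff
  obtain ⟨⟨g, hgT⟩, hgen⟩ := hTc.exists_generator
  have hall : ∀ x ∈ T, ∃ i : ℕ, g ^ i = x := fun x hx => by
    obtain ⟨i, hi⟩ := mem_powers_iff_mem_zpowers.2 (hgen ⟨x, hx⟩)
    exact ⟨i, congrArg Subtype.val hi⟩
  have ho : orderOf g = 9 := by
    have h1 := orderOf_eq_card_of_forall_mem_zpowers hgen
    rw [Subgroup.orderOf_mk, hT9, S.qq_eq] at h1
    exact h1
  have hg : g ∈ sigGrp G a t := hTs hgT
  obtain ⟨M, hM⟩ := S.exists_rep hg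
  obtain ⟨β, lam, hδ, heig⟩ := S.exists_eigen hg ho hM
  have hδ8 : (β + β ^ 8) ^ 8 = β + β ^ 8 := by
    rw [S.add8, S.bar_bar, add_comm]
  have hδ7 : (β + β ^ 8) ^ 7 = 1 := mul_left_cancel₀ hδ (by linear_combination hδ8)
  obtain ⟨k, hk, hchi⟩ := S.chi_K_surj (x := (β + β ^ 8) ^ 2)
    (by rw [← pow_mul, mul_comm, pow_mul, hδ7, one_pow])
  have hkS := S.k_mem_sig hk
  set p := u • (t • a) with hp
  have hconj : ∀ i : ℕ, (k * g * k⁻¹) ^ i • k • p = k • g ^ i • p := fun i => by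
    rw [conj_pow, mul_smul, mul_smul, inv_smul_smul]
  have h7 := S.co.chi_K k hk
  refine ⟨⟨k • p, fun hc => hoff ((S.smul_mem_iff hkS).1 hc), k * g * k⁻¹,
    mul_mem (mul_mem hkS hg) (inv_mem hkS), ?_, S.co.chi k ^ 3 * β, ?_, lam, _,
    ((S.rep_k hk).mul' S hM).mul' S ((S.rep_k hk).inv' S), ?_, fun w hw => ?_, ?_⟩⟩
  · rw [← ho]
    exact MulEquiv.orderOf_eq (MulAut.conj k) g
  · have e : S.co.chi k ^ 3 * (β + β ^ 8) = 1 := by
      rw [hchi, ← pow_mul, ← pow_succ]; exact hδ7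
    have e8 : (S.co.chi k ^ 3) ^ 8 = S.co.chi k ^ 3 := by
      rw [← pow_mul, show 3 * 8 = 7 * 3 + 3 by norm_num, pow_add, pow_mul, h7, one_pow, one_mul]
    rw [mul_pow, e8]
    linear_combination e
  · rw [Mat.app_mul, Mat.app_mul]
    simp only [Mat.app, zero_mul, add_zero, zero_add, mul_one] at heig ⊢
    obtain ⟨e1, e2⟩ := Prod.mk.inj heig
    have h51 : S.co.chi k ^ 2 * S.co.chi k ^ 3 = S.co.chi k ^ 5 := by ring
    simp only [Prod.mk.injEq]
    constructor
    · rw [show M.p * (S.co.chi k ^ 2 * (S.co.chi k ^ 3 * β)) + M.q * S.co.chi k ^ 5 =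
        S.co.chi k ^ 5 * (M.p * β + M.q) by ring, e1]
      linear_combination S.co.chi k ^ 3 * lam * β * h7
    · rw [show M.r * (S.co.chi k ^ 2 * (S.co.chi k ^ 3 * β)) + M.s * S.co.chi k ^ 5 =
        S.co.chi k ^ 5 * (M.r * β + M.s) by ring, e2]
      linear_combination lam * h7
  · obtain ⟨x, hx, hxw⟩ := hTw w hw
    obtain ⟨i, rfl⟩ := hall x hx
    refine ⟨i, ?_⟩
    rw [hconj, hxw, smul_smul w k, ← (S.lines.sig_comm k hkS w hw).eq, mul_smul]
  · refine ⟨k * h, fun i => ?_⟩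
    rw [hconj, mul_smul, Set.smul_mem_smul_set_iff, hh]
    exact ⟨g ^ i, pow_mem hgT i, rfl⟩

end Sit

end Cfsg.Agent.RankOneClass.UniEight
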