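import Cfsg.Agent.RankOneClass.Sigma
import Cfsg.Agent.RankOneClass.UniEight.Field64

/-!
`Σ` in coordinates: the action on the circle is the projective action of unimodular 2 × 2 matrices
over the subfield with eight elements.
-/

set_option autoImplicit false

open Subgroup MulAction
open scoped Pointwise

namespace Cfsg.Agent.RankOneClass.UniEight

open Cfsg.Agent.RankOne

universe u v

/-- A 2 × 2 matrix. -/
@[ext] structure Mat (E : Type) where
  p : E
  q : E
  r : E
  s : E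

namespace Mat

variable {E : Type} [Field E]

/-- The matrix applied to a vector. -/
def app (M : Mat E) (v : E × E) : E × E := (M.p * v.1 + M.q * v.2, M.r * v.1 + M.s * v.2)

/-- The product. -/
def mul (M N : Mat E) : Mat E :=
  ⟨M.p * N.p + M.q * N.r, M.p * N.q + M.q * N.s, M.r * N.p + M.s * N.r, M.r * N.q + M.s * N.s⟩

/-- The unit. -/
def id' : Mat E := ⟨1, 0, 0, 1⟩

theorem app_mul (M N : Mat E) (v : E × E) : (M.mul N).app v = M.app (N.app v) := by
  simp only [app, mul, Prod.mk.injEq]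
  constructor <;> ring

theorem app_id (v : E × E) : (id' : Mat E).app v = v := by simp [app, id']

theorem app_smul (M : Mat E) (c : E) (v : E × E) :
    M.app (c * v.1, c * v.2) = (c * (M.app v).1, c * (M.app v).2) := by
  simp only [app, Prod.mk.injEq]
  constructor <;> ring

end Mat

/-- In `F₈`. -/
def InEight {E : Type} [Field E] (x : E) : Prop := x ^ 8 = x

variable {G : Type u} {Ω : Type v} [Group G] [Finite G] [MulAction G Ω] {a : Ω} {t : G}
  {Q : Subgroup G} {E : Type} [Field E] [Fintype E]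

/-- `Z` is the set of points with first coordinate zero. -/
theorem mem_zGrp_iff_px (hU : IsUni G a Q) (hq : qq G a = 8) (A' : AltCoord G a t Q E) {u : G}
    (hu : u ∈ Q) : u ∈ zGrp G a ↔ A'.px u = 0 := by
  classical
  have h2 : (2 : E) = 0 := two_eq_zero A'.card_E
  have px_one : A'.px 1 = 0 := by
    have := A'.mul_x 1 Q.one_mem 1 Q.one_mem
    rw [one_mul] at this
    linear_combination -this
  have pz_one : A'.pz 1 = 0 := by
    have := A'.mul_z 1 Q.one_mem 1 Q.one_mem
    rw [one_mul, px_one, zero_pow two_ne_zero, zero_mul, mul_zero, zero_pow (by norm_num),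
      add_zero, add_zero] at this
    linear_combination -this
  let A : Set G := {u | u ∈ Q ∧ A'.px u = 0}
  have hsub : A ⊆ (zGrp G a : Set G) := by
    rintro x ⟨hx, hx0⟩
    refine hU.invol_mem x hx (A'.inj _ (Q.mul_mem hx hx) 1 Q.one_mem ?_ ?_)
    · rw [A'.mul_x x hx x hx, hx0, add_zero, px_one]
    · rw [A'.mul_z x hx x hx, hx0, zero_pow two_ne_zero, zero_mul, mul_zero,
        zero_pow (by norm_num), add_zero, add_zero, pz_one]
      linear_combination A'.pz x * h2
  have hcard : Nat.card {z : E // InEight z} = 8 := by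
    obtain ⟨θ, hθ⟩ := exists_theta A'.card_E
    have hM : Model θ := ⟨A'.card_E, hθ⟩
    let f : Fin 8 → {z : E // InEight z} := fun i =>
      ⟨(1 + θ ^ 2) ^ (9 * (i : ℕ)) * (if (i : ℕ) = 7 then 0 else 1), by
        show (_ : E) ^ 8 = _
        split
        · simp
        · rw [mul_one, ← pow_mul, show 9 * (i : ℕ) * 8 = 63 * i + 9 * i by ring, pow_add, pow_mul,
            pow_sixty_three hM.card hM.gam_ne, one_pow, one_mul]⟩
    rw [Nat.card_eq_of_bijective f ⟨?_, ?_⟩ |>.symm, Nat.card_fin]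
    · intro i j hij
      have h1 := congrArg Subtype.val hij
      simp only [f] at h1
      have := i.2; have := j.2
      by_cases hi : (i : ℕ) = 7 <;> by_cases hj : (j : ℕ) = 7
      · exact Fin.ext (hi.trans hj.symm)
      · rw [if_pos hi, if_neg hj, mul_zero, mul_one] at h1
        exact absurd h1.symm (pow_ne_zero _ hM.gam_ne)
      · rw [if_neg hi, if_pos hj, mul_zero, mul_one] at h1
        exact absurd h1 (pow_ne_zero _ hM.gam_ne)
      · rw [if_neg hi, if_neg hj, mul_one, mul_one] at h1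
        have := hM.log_unique h1
        exact Fin.ext (by omega)
    · rintro ⟨z, hz⟩
      rcases eq_or_ne z 0 with rfl | hz0
      · exact ⟨⟨7, by norm_num⟩, Subtype.ext (by simp [f])⟩
      · obtain ⟨l, hl, rfl⟩ := hM.exists_log hz0
        have h8 : (1 + θ ^ 2 : E) ^ (8 * l) = (1 + θ ^ 2) ^ l := by
          rw [mul_comm, pow_mul]; exact hz
        have := hM.log_unique h8
        refine ⟨⟨l / 9, by omega⟩, Subtype.ext ?_⟩
        simp only [f]
        rw [if_neg (by omega), mul_one, show 9 * (l / 9) = l by omega]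
  have hA : A.ncard = 8 := by
    rw [← hcard, ← Nat.card_coe_set_eq]
    refine Nat.card_eq_of_bijective (fun x : A => (⟨A'.pz x, A'.pz_fix _ x.2.1⟩ :
      {z : E // InEight z})) ⟨?_, ?_⟩
    · rintro ⟨x, hx⟩ ⟨y, hy⟩ h
      exact Subtype.ext (A'.inj x hx.1 y hy.1 (hx.2.trans hy.2.symm) (congrArg Subtype.val h))
    · rintro ⟨z, hz⟩
      obtain ⟨x, hx, h1, h2⟩ := A'.surj 0 z hz
      exact ⟨⟨x, hx, h1⟩, Subtype.ext h2⟩
  have heq : A = (zGrp G a : Set G) := Set.eq_of_subset_of_ncard_le hsub (by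
    rw [hA, ← Nat.card_coe_set_eq]; exact le_of_eq hq) (Set.toFinite _)
  constructor
  · intro h
    have : u ∈ A := by rw [heq]; exact h
    exact this.2
  · exact fun h => hsub ⟨hu, h⟩

/-- The data in force: `q = 8` and coordinates in which `t` inverts the circle. -/
structure Sit (G : Type u) {Ω : Type v} [Group G] [Finite G] [MulAction G Ω] (a : Ω) (t : G)
    (Q : Subgroup G) (E : Type) [Field E] [Fintype E] where
  ctx : Ctx G Ω a t Q
  uni : IsUni G a Q
  lines : Lines G a t Q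
  qq_eq : qq G a = 8
  card_w : Nat.card (wGrp G a t) = 3
  co : AltCoord G a t Q E
  s : G
  r : G
  link : IsLink G a t Q s r
  norm : co.pz s * co.pz r = 1

namespace Sit

variable (S : Sit G a t Q E)
include S

theorem two : (2 : E) = 0 := two_eq_zero S.co.card_E

theorem pow63 {x : E} (hx : x ≠ 0) : x ^ 63 = 1 := pow_sixty_three S.co.card_E hx

theorem add8 (x y : E) : (x + y) ^ 8 = x ^ 8 + y ^ 8 := by
  have h : ∀ u v : E, (u + v) ^ 2 = u ^ 2 + v ^ 2 := fun u v => by
    linear_combination u * v * S.two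
  rw [show (8 : ℕ) = 2 * 2 * 2 by norm_num, pow_mul, pow_mul, h, h, h]
  ring

theorem bar_bar (x : E) : (x ^ 8) ^ 8 = x := by
  rw [← pow_mul]
  have := FiniteField.pow_card x
  rwa [S.co.card_E] at this

theorem eight_add {x y : E} (hx : InEight x) (hy : InEight y) : InEight (x + y) := by
  simp only [InEight] at *
  rw [S.add8, hx, hy]

theorem px_one : S.co.px 1 = 0 := by
  have := S.co.mul_x 1 Q.one_mem 1 Q.one_mem
  rw [one_mul] at this
  linear_combination -this

theorem pz_one : S.co.pz 1 = 0 := by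
  have := S.co.mul_z 1 Q.one_mem 1 Q.one_mem
  rw [one_mul, S.px_one, zero_pow two_ne_zero, zero_mul, mul_zero, zero_pow (by norm_num),
    add_zero, add_zero] at this
  linear_combination -this

/-- `Z` is the set of points with first coordinate zero. -/
theorem mem_z_iff {u : G} (hu : u ∈ Q) : u ∈ zGrp G a ↔ S.co.px u = 0 :=
  mem_zGrp_iff_px S.uni S.qq_eq S.co hu

theorem px_z {z : G} (hz : z ∈ zGrp G a) : S.co.px z = 0 :=
  (S.mem_z_iff (S.ctx.zGrp_le hz)).1 hz

theorem pz_z_mul {z u : G} (hz : z ∈ zGrp G a) (hu : u ∈ Q) :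
    S.co.px (z * u) = S.co.px u ∧ S.co.pz (z * u) = S.co.pz z + S.co.pz u := by
  have hzQ := S.ctx.zGrp_le hz
  rw [S.co.mul_x z hzQ u hu, S.co.mul_z z hzQ u hu, S.px_z hz]
  simp

theorem z_ext {z z' : G} (hz : z ∈ zGrp G a) (hz' : z' ∈ zGrp G a)
    (h : S.co.pz z = S.co.pz z') : z = z' :=
  S.co.inj z (S.ctx.zGrp_le hz) z' (S.ctx.zGrp_le hz') ((S.px_z hz).trans (S.px_z hz').symm) h

theorem exists_z {x : E} (hx : InEight x) : ∃ z, z ∈ zGrp G a ∧ S.co.pz z = x := by
  obtain ⟨z, hz, h1, h2⟩ := S.co.surj 0 x hx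
  exact ⟨z, (S.mem_z_iff hz).2 h1, h2⟩

open scoped _root_.Classical in
/-- The element of `Z` with a given coordinate. -/
noncomputable def zel (x : E) : G := if h : InEight x then (S.exists_z h).choose else 1

theorem zel_spec {x : E} (hx : InEight x) : S.zel x ∈ zGrp G a ∧ S.co.pz (S.zel x) = x := by
  rw [zel, dif_pos hx]
  exact (S.exists_z hx).choose_spec

theorem zel_eq {x : E} (hx : InEight x) {z : G} (hz : z ∈ zGrp G a) (h : S.co.pz z = x) :
    z = S.zel x :=
  S.z_ext hz (S.zel_spec hx).1 (h.trans (S.zel_spec hx).2.symm)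

open scoped _root_.Classical in
/-- The point of the circle of a vector. -/
noncomputable def pt (v : E × E) : Ω := if v.2 = 0 then a else S.zel (v.1 / v.2) • (t • a)

theorem pt_mem (v : E × E) (h1 : InEight v.1) (h2 : InEight v.2) :
    S.pt v ∈ line0 G a t := by
  unfold pt
  split
  · exact Ctx.a_mem_line0 _ _
  · refine Ctx.mem_line0.2 (Or.inr ⟨_, (S.zel_spec ?_).1, rfl⟩)
    show (v.1 / v.2) ^ 8 = v.1 / v.2
    rw [div_pow, h1, h2]

theorem pt_inj {v w : E × E} (hv1 : InEight v.1) (hv2 : InEight v.2) (hw1 : InEight w.1)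
    (hw2 : InEight w.2) (h : S.pt v = S.pt w) : v.1 * w.2 = v.2 * w.1 := by
  have hd : ∀ x y : E, InEight x → InEight y → InEight (x / y) := fun x y hx hy => by
    show (x / y) ^ 8 = x / y
    rw [div_pow, hx, hy]
  unfold pt at h
  split at h <;> rename_i hv <;> split at h <;> rename_i hw
  · rw [hv, hw]; ring
  · exact absurd h.symm (Q_smul_ne S.ctx.setup (S.ctx.zGrp_le (S.zel_spec (hd _ _ hw1 hw2)).1)
      (t_smul_ne S.ctx.setup))
  · exact absurd h (Q_smul_ne S.ctx.setup (S.ctx.zGrp_le (S.zel_spec (hd _ _ hv1 hv2)).1)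
      (t_smul_ne S.ctx.setup))
  · have := congrArg S.co.pz (Q_smul_inj S.ctx.setup (S.ctx.zGrp_le (S.zel_spec (hd _ _ hv1 hv2)).1)
      (S.ctx.zGrp_le (S.zel_spec (hd _ _ hw1 hw2)).1) (t_smul_ne S.ctx.setup) h)
    rw [(S.zel_spec (hd _ _ hv1 hv2)).2, (S.zel_spec (hd _ _ hw1 hw2)).2, div_eq_div_iff hv hw]
      at this
    rw [this, mul_comm]

/-- `g` acts on the circle as the matrix `M`. -/
structure Rep (g : G) (M : Mat E) : Prop where
  p8 : InEight M.p
  q8 : InEight M.q
  r8 : InEight M.r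
  s8 : InEight M.s
  det : M.p * M.s + M.q * M.r = 1
  act : ∀ v : E × E, InEight v.1 → InEight v.2 → v ≠ 0 → g • S.pt v = S.pt (M.app v)

theorem eight_mul {x y : E} (hx : InEight x) (hy : InEight y) : InEight (x * y) := by
  simp only [InEight] at *
  rw [mul_pow, hx, hy]

theorem app_eight {g : G} {M : Mat E} (h : S.Rep g M) {v : E × E} (h1 : InEight v.1)
    (h2 : InEight v.2) : InEight (M.app v).1 ∧ InEight (M.app v).2 :=
  ⟨S.eight_add (S.eight_mul h.p8 h1) (S.eight_mul h.q8 h2),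
    S.eight_add (S.eight_mul h.r8 h1) (S.eight_mul h.s8 h2)⟩

theorem app_ne {g : G} {M : Mat E} (h : S.Rep g M) {v : E × E} (hv : v ≠ 0) : M.app v ≠ 0 := by
  intro h0
  have h1 : M.p * v.1 + M.q * v.2 = 0 := congrArg Prod.fst h0
  have h2 : M.r * v.1 + M.s * v.2 = 0 := congrArg Prod.snd h0
  refine hv (Prod.ext ?_ ?_)
  · show v.1 = 0
    linear_combination M.s * h1 + M.q * h2 - v.1 * h.det - M.q * M.s * v.2 * S.two
  · show v.2 = 0
    linear_combination M.r * h1 + M.p * h2 - v.2 * h.det - M.p * M.r * v.1 * S.two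

theorem Rep.mul' {g g' : G} {M N : Mat E} (h : S.Rep g M) (h' : S.Rep g' N) :
    S.Rep (g * g') (M.mul N) where
  p8 := S.eight_add (S.eight_mul h.p8 h'.p8) (S.eight_mul h.q8 h'.r8)
  q8 := S.eight_add (S.eight_mul h.p8 h'.q8) (S.eight_mul h.q8 h'.s8)
  r8 := S.eight_add (S.eight_mul h.r8 h'.p8) (S.eight_mul h.s8 h'.r8)
  s8 := S.eight_add (S.eight_mul h.r8 h'.q8) (S.eight_mul h.s8 h'.s8)
  det := by
    simp only [Mat.mul]
    linear_combination (N.p * N.s + N.q * N.r) * h.det + h'.det +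
      (M.p * M.r * N.p * N.q + M.q * M.s * N.r * N.s) * S.two
  act v h1 h2 hv := by
    rw [mul_smul, h'.act v h1 h2 hv, h.act _ (S.app_eight h' h1 h2).1 (S.app_eight h' h1 h2).2
      (S.app_ne h' hv), Mat.app_mul]

theorem rep_one : S.Rep 1 Mat.id' where
  p8 := one_pow 8
  q8 := zero_pow (by norm_num)
  r8 := zero_pow (by norm_num)
  s8 := one_pow 8
  det := by simp [Mat.id']
  act v _ _ _ := by rw [one_smul, Mat.app_id]

/-- The adjugate. -/
theorem Rep.inv' {g : G} {M : Mat E} (h : S.Rep g M) : S.Rep g⁻¹ ⟨M.s, M.q, M.r, M.p⟩ where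
  p8 := h.s8
  q8 := h.q8
  r8 := h.r8
  s8 := h.p8
  det := by linear_combination h.det
  act v h1 h2 hv := by
    rw [inv_smul_eq_iff]
    have hne : (⟨M.s, M.q, M.r, M.p⟩ : Mat E).app v ≠ 0 := by
      intro h0
      have e1 : M.s * v.1 + M.q * v.2 = 0 := congrArg Prod.fst h0
      have e2 : M.r * v.1 + M.p * v.2 = 0 := congrArg Prod.snd h0
      refine hv (Prod.ext ?_ ?_)
      · show v.1 = 0
        linear_combination M.p * e1 + M.q * e2 - v.1 * h.det - M.p * M.q * v.2 * S.two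
      · show v.2 = 0
        linear_combination M.r * e1 + M.s * e2 - v.2 * h.det - M.r * M.s * v.1 * S.two
    rw [h.act _ (S.eight_add (S.eight_mul h.s8 h1) (S.eight_mul h.q8 h2))
      (S.eight_add (S.eight_mul h.r8 h1) (S.eight_mul h.p8 h2)) hne]
    congr 1
    simp only [Mat.app]
    refine Prod.ext ?_ ?_
    · show v.1 = _
      linear_combination -v.1 * h.det - M.p * M.q * v.2 * S.two
    · show v.2 = _
      linear_combination -v.2 * h.det - M.r * M.s * v.1 * S.two

theorem sq_eq_one {x : E} (h : x ^ 2 = 1) : x = 1 := by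
  have : (x + 1) ^ 2 = 0 := by linear_combination h + (x + 1) * S.two
  linear_combination (pow_eq_zero_iff (n := 2) (by norm_num)).1 this - S.two

/-- The matrix of an element is unique. -/
theorem Rep.unique {g : G} {M N : Mat E} (h : S.Rep g M) (h' : S.Rep g N) : M = N := by
  have h0 : InEight (0 : E) := zero_pow (by norm_num)
  have h1 : InEight (1 : E) := one_pow 8
  have key : ∀ v : E × E, InEight v.1 → InEight v.2 → v ≠ 0 →
      (M.app v).1 * (N.app v).2 = (M.app v).2 * (N.app v).1 := fun v a1 a2 hv =>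
    S.pt_inj (S.app_eight h a1 a2).1 (S.app_eight h a1 a2).2 (S.app_eight h' a1 a2).1
      (S.app_eight h' a1 a2).2 ((h.act v a1 a2 hv).symm.trans (h'.act v a1 a2 hv))
  have k1 := key (1, 0) h1 h0 (by simp)
  have k2 := key (0, 1) h0 h1 (by simp)
  have k3 := key (1, 1) h1 h1 (by simp)
  simp only [Mat.app, mul_one, mul_zero, add_zero, zero_add] at k1 k2 k3
  obtain ⟨p, q, r, s⟩ := M
  obtain ⟨p', q', r', s'⟩ := N
  simp only at k1 k2 k3
  have hd : p * s + q * r = 1 := h.det
  have hd' : p' * s' + q' * r' = 1 := h'.det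
  have hAD : s * p' + q * r' = r * q' + p * s' := by
    linear_combination k3 - k1 - k2 + (s * p' - p * s') * S.two
  set A := s * p' + q * r' with hA
  have ep : p' = A * p := by
    rw [hA]; linear_combination -p' * hd - q * k1
  have er : r' = A * r := by
    rw [hA]; linear_combination -r' * hd + s * k1
  have eq' : q' = A * q := by
    rw [hAD]; linear_combination -q' * hd - p * k2
  have es : s' = A * s := by
    rw [hAD]; linear_combination -s' * hd + r * k2
  have hA1 : A = 1 := S.sq_eq_one (by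
    rw [ep, er, eq', es] at hd'
    linear_combination hd' - A ^ 2 * hd)
  rw [ep, er, eq', es, hA1, one_mul, one_mul, one_mul, one_mul]

theorem rep_z {z : G} (hz : z ∈ zGrp G a) : S.Rep z ⟨1, S.co.pz z, 0, 1⟩ where
  p8 := one_pow 8
  q8 := S.co.pz_fix z (S.ctx.zGrp_le hz)
  r8 := zero_pow (by norm_num)
  s8 := one_pow 8
  det := by simp
  act v h1 h2 hv := by
    simp only [Mat.app, one_mul, zero_mul, zero_add]
    unfold pt
    split
    · exact smul_a_of_mem_Q S.ctx.setup (S.ctx.zGrp_le hz)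
    · rename_i hv2
      have hd : InEight (v.1 / v.2) := by show _ ^ 8 = _; rw [div_pow, h1, h2]
      have hd' : InEight ((v.1 + S.co.pz z * v.2) / v.2) := by
        show _ ^ 8 = _
        rw [div_pow, S.add8, mul_pow, h1, h2, S.co.pz_fix z (S.ctx.zGrp_le hz)]
      rw [smul_smul]
      congr 1
      refine S.zel_eq hd' (mul_mem hz (S.zel_spec hd).1) ?_
      rw [(S.pz_z_mul hz (S.ctx.zGrp_le (S.zel_spec hd).1)).2, (S.zel_spec hd).2]
      field_simp
      ring

theorem chi_ne {d : G} (hd : d ∈ kGrp G a t ⊔ wGrp G a t) : S.co.chi d ≠ 0 := by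
  intro h0
  have h1 : S.co.chi 1 = 0 := by
    have h := S.co.chi_mul d hd d⁻¹ (inv_mem hd)
    rwa [mul_inv_cancel, h0, zero_mul] at h
  have h2 := S.co.chi_K 1 (one_mem _)
  rw [h1, zero_pow (by norm_num)] at h2
  exact zero_ne_one h2

theorem chi_one : S.co.chi 1 = 1 := by
  have h := S.co.chi_mul 1 (one_mem _) 1 (one_mem _)
  rw [one_mul] at h
  exact mul_left_cancel₀ (S.chi_ne (one_mem _)) (h.symm.trans (mul_one _).symm)

theorem chi_inj' {c d : G} (hc : c ∈ kGrp G a t ⊔ wGrp G a t)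
    (hd : d ∈ kGrp G a t ⊔ wGrp G a t) (h : S.co.chi c = S.co.chi d) : c = d := by
  refine inv_mul_eq_one.1 (S.co.chi_inj _ (mul_mem (inv_mem hc) hd) ?_)
  rw [S.co.chi_mul _ (inv_mem hc) _ hd, ← h, ← S.co.chi_mul _ (inv_mem hc) _ hc, inv_mul_cancel,
    S.chi_one]

theorem k_smul_b {k : G} (hk : k ∈ kGrp G a t) : k • (t • a) = t • a :=
  (mem_twoPt.1 (Ctx.kGrp_le G a t hk)).2

theorem smul_conj {d u : G} (hd : d ∈ twoPt G a t) :
    d • (u • (t • a)) = (d * u * d⁻¹) • (t • a) := by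
  rw [mul_smul, mul_smul, (mem_twoPt.1 (inv_mem hd)).2]

theorem rep_k {k : G} (hk : k ∈ kGrp G a t) :
    S.Rep k ⟨S.co.chi k ^ 5, 0, 0, S.co.chi k ^ 2⟩ := by
  have h7 := S.co.chi_K k hk
  have h8 : ∀ n : ℕ, InEight (S.co.chi k ^ n) := fun n => by
    show (_ ^ n) ^ 8 = _
    rw [← pow_mul, show n * 8 = 7 * n + n by ring, pow_add, pow_mul, h7, one_pow, one_mul]
  refine ⟨h8 5, zero_pow (by norm_num), zero_pow (by norm_num), h8 2, ?_, fun v h1 h2 hv => ?_⟩
  · simp only [mul_zero, add_zero, ← pow_add]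
    exact h7
  · simp only [Mat.app, zero_mul, add_zero, zero_add]
    unfold pt
    have hk0 : S.co.chi k ≠ 0 := S.chi_ne (mem_sup_left hk)
    simp only
    by_cases hv2 : v.2 = 0
    · rw [if_pos hv2, if_pos (by rw [hv2, mul_zero])]
      exact (mem_twoPt.1 (Ctx.kGrp_le G a t hk)).1
    · rw [if_neg hv2, if_neg (mul_ne_zero (pow_ne_zero 2 hk0) hv2)]
      have hd : InEight (v.1 / v.2) := by show _ ^ 8 = _; rw [div_pow, h1, h2]
      have hd' : InEight (S.co.chi k ^ 5 * v.1 / (S.co.chi k ^ 2 * v.2)) := by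
        show _ ^ 8 = _
        rw [div_pow, mul_pow, mul_pow, h8 5, h8 2, h1, h2]
      rw [S.smul_conj (Ctx.kGrp_le G a t hk)]
      congr 1
      refine S.zel_eq hd' (S.ctx.conj_mem_zGrp (twoPt_le (Ctx.kGrp_le G a t hk))
        (S.zel_spec hd).1) ?_
      rw [S.co.conj_z k (mem_sup_left hk) _ (S.ctx.zGrp_le (S.zel_spec hd).1), (S.zel_spec hd).2]
      field_simp

/-- `χ` takes every value in the seventh roots of unity on `K`. -/
theorem chi_K_surj {x : E} (hx : x ^ 7 = 1) : ∃ k ∈ kGrp G a t, S.co.chi k = x := by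
  classical
  have hK : Nat.card (kGrp G a t) = 7 := by
    have := S.ctx.card_kGrp; rw [S.qq_eq] at this; omega
  have := Fintype.ofFinite (kGrp G a t)
  let I : Finset E := Finset.univ.image fun k : kGrp G a t => S.co.chi k
  have hI : I.card = 7 := by
    rw [Finset.card_image_of_injective _ (fun k l h =>
      Subtype.ext (S.chi_inj' (mem_sup_left k.2) (mem_sup_left l.2) h)), Finset.card_univ,
      ← Nat.card_eq_fintype_card, hK]
  have hsub : I ⊆ (Polynomial.nthRoots 7 (1 : E)).toFinset := fun y hy => by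
    obtain ⟨k, -, rfl⟩ := Finset.mem_image.1 hy
    rw [Multiset.mem_toFinset, Polynomial.mem_nthRoots (by norm_num)]
    exact S.co.chi_K _ k.2
  have hle : (Polynomial.nthRoots 7 (1 : E)).toFinset.card ≤ 7 :=
    (Multiset.toFinset_card_le _).trans (Polynomial.card_nthRoots 7 _)
  have heq := Finset.eq_of_subset_of_card_le hsub (hI ▸ hle)
  have hxI : x ∈ I := by
    rw [heq, Multiset.mem_toFinset, Polynomial.mem_nthRoots (by norm_num)]; exact hx
  obtain ⟨k, -, hk⟩ := Finset.mem_image.1 hxI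
  exact ⟨k, k.2, hk⟩

theorem rep_t : S.Rep t ⟨0, 1, 1, 0⟩ := by
  refine ⟨zero_pow (by norm_num), one_pow 8, one_pow 8, zero_pow (by norm_num), by simp,
    fun v h1 h2 hv => ?_⟩
  simp only [Mat.app, zero_mul, one_mul, zero_add, add_zero]
  have h0 : InEight (0 : E) := zero_pow (by norm_num)
  have hz0 : S.zel 0 = 1 := (S.zel_eq h0 (one_mem _) S.pz_one).symm
  unfold pt
  simp only
  by_cases hv2 : v.2 = 0
  · rw [if_pos hv2, hv2]
    have hv1 : v.1 ≠ 0 := fun h => hv (Prod.ext h hv2)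
    rw [if_neg hv1, zero_div, hz0, one_smul]
  rw [if_neg hv2]
  by_cases hv1 : v.1 = 0
  · rw [if_pos hv1, hv1, zero_div, hz0, one_smul, t_smul_smul S.ctx.setup]
  rw [if_neg hv1]
  have hd : InEight (v.1 / v.2) := by show _ ^ 8 = _; rw [div_pow, h1, h2]
  have hd' : InEight (v.2 / v.1) := by show _ ^ 8 = _; rw [div_pow, h1, h2]
  have hsz : S.s ∈ zGrp G a := subset_closure S.link.1
  have hs0 : S.co.pz S.s ≠ 0 := fun h => by
    have := S.norm; rw [h, zero_mul] at this; exact zero_ne_one this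
  have hne : v.1 / v.2 / S.co.pz S.s ≠ 0 := div_ne_zero (div_ne_zero hv1 hv2) hs0
  set y := v.1 / v.2 / S.co.pz S.s with hy
  have hy8 : y ^ 8 = y := by
    rw [hy, div_pow, hd, S.co.pz_fix _ (S.ctx.zGrp_le hsz)]
  have hy7 : y ^ 7 = 1 := mul_left_cancel₀ hne (by linear_combination hy8)
  obtain ⟨k, hk, hchi⟩ := S.chi_K_surj (x := y ^ 5) (by rw [← pow_mul, mul_comm, pow_mul, hy7, one_pow])
  have hkD := Ctx.kGrp_le G a t hk
  have hpz : S.co.pz (k * S.s * k⁻¹) = v.1 / v.2 := by
    rw [S.co.conj_z k (mem_sup_left hk) _ (S.ctx.zGrp_le hsz), hchi, ← pow_mul,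
      show 5 * 3 = 7 * 2 + 1 by norm_num, pow_add, pow_mul, hy7, one_pow, one_mul, pow_one, hy,
      div_mul_cancel₀ _ hs0]
  rw [← S.zel_eq hd (S.ctx.conj_mem_zGrp (twoPt_le hkD) hsz) hpz, S.ctx.t_smul_invol S.link hk]
  congr 1
  have hrz : S.r ∈ zGrp G a := S.lines.link_mem _ _ S.link
  refine S.zel_eq hd' (by
    simpa using S.ctx.conj_mem_zGrp (inv_mem (twoPt_le hkD)) (inv_mem hrz)) ?_
  have hinv : S.co.chi k⁻¹ * S.co.chi k = 1 := by
    rw [← S.co.chi_mul _ (inv_mem (mem_sup_left hk)) _ (mem_sup_left hk), inv_mul_cancel, S.chi_one]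
  have := S.co.conj_z k⁻¹ (inv_mem (mem_sup_left hk)) S.r (S.ctx.zGrp_le hrz)
  rw [inv_inv] at this
  rw [S.ctx.zGrp_inv hrz, this, eq_inv_of_mul_eq_one_left hinv, hchi, inv_pow, ← pow_mul,
    show 5 * 3 = 7 * 2 + 1 by norm_num, pow_add, pow_mul, hy7, one_pow, one_mul, pow_one, hy]
  have hr0 : S.co.pz S.r = (S.co.pz S.s)⁻¹ := eq_inv_of_mul_eq_one_right S.norm
  rw [hr0]
  field_simp

theorem exists_rep {g : G} (hg : g ∈ sigGrp G a t) : ∃ M, S.Rep g M := by
  have hle : sigGrp G a t ≤ closure {x : G | ∃ M, S.Rep x M} :=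
    sup_le (fun z hz => subset_closure ⟨_, S.rep_z hz⟩)
      ((Subgroup.closure_le _).2 fun x (hx : x = t) =>
        hx.symm ▸ subset_closure ⟨_, S.rep_t⟩)
  refine closure_induction (p := fun x _ => ∃ M, S.Rep x M) (fun x hx => hx) ⟨_, S.rep_one⟩ ?_ ?_
    (hle hg)
  · rintro x y - - ⟨M, hM⟩ ⟨N, hN⟩
    exact ⟨_, hM.mul' S hN⟩
  · rintro x - ⟨M, hM⟩
    exact ⟨_, hM.inv' S⟩

theorem eq_of_rep {g g' : G} (hg : g ∈ sigGrp G a t) (hg' : g' ∈ sigGrp G a t) {M : Mat E}
    (h : S.Rep g M) (h' : S.Rep g' M) : g = g' := by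
  refine inv_mul_eq_one.1 (S.lines.sig_faithful _ (mul_mem (inv_mem hg) hg') fun p hp => ?_)
  rw [mul_smul, inv_smul_eq_iff]
  rcases Ctx.mem_line0.1 hp with hpa | ⟨z, hz, rfl⟩
  · have e : S.pt ((1, 0) : E × E) = p := by simp [pt, hpa]
    rw [← e, h'.act ((1, 0) : E × E) (one_pow 8) (zero_pow (by norm_num)) (by simp),
      h.act ((1, 0) : E × E) (one_pow 8) (zero_pow (by norm_num)) (by simp)]
  · have hz8 : InEight (S.co.pz z) := S.co.pz_fix z (S.ctx.zGrp_le hz)
    have e : S.pt ((S.co.pz z, 1) : E × E) = z • (t • a) := by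
      simp [pt, ← S.zel_eq hz8 hz rfl]
    rw [← e, h'.act ((S.co.pz z, 1) : E × E) hz8 (one_pow 8) (by simp),
      h.act ((S.co.pz z, 1) : E × E) hz8 (one_pow 8) (by simp)]

theorem k_mem_sig {k : G} (hk : k ∈ kGrp G a t) : k ∈ sigGrp G a t := by
  rw [← SetLike.mem_coe, S.ctx.coe_sigGrp S.link (S.lines.link_mem _ _ S.link)]
  exact ⟨1, one_mem _, k, hk, Or.inl (one_mul k).symm⟩

theorem t_mem_sig : t ∈ sigGrp G a t := mem_sup_right (subset_closure rfl)

theorem z_mem_sig {z : G} (hz : z ∈ zGrp G a) : z ∈ sigGrp G a t := mem_sup_left hz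

end Sit

end Cfsg.Agent.RankOneClass.UniEight
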