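import Cfsg.Agent.RankOneClass.UniEight.Eqs
import Cfsg.Agent.RankOneClass.UniEight.Check

/-!
Soundness of the finite search.
-/

set_option autoImplicit false

namespace Cfsg.Agent.RankOneClass.UniEight

variable {E : Type*} [Field E] [Fintype E] {θ : E}

/-- A representative describes `Y` and `d` at a power of the generator. -/
structure Valid (θ : E) (Y d : E → E) (r : ℕ × ℕ × ℕ) : Prop where
  log_lt : r.1 < 63
  row_lt : r.2.1 < 64
  shift_lt : r.2.2 < 64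
  row : phi θ r.2.1 = Y ((1 + θ ^ 2) ^ r.1)
  shift : phi θ r.2.2 = d ((1 + θ ^ 2) ^ r.1)
  nine : (Y ((1 + θ ^ 2) ^ r.1)) ^ 9 = 1

theorem traceB_lt {w : ℕ} (hw : w < 64) : traceB w < 64 := xor_lt hw (powB_lt _ _)

theorem pointY_lt {c d₀ : ℕ} {r : ℕ × ℕ × ℕ} {k : ℕ} (hc : c < 64) (hd : d₀ < 64)
    (hr : r.2.2 < 64) : pointY c d₀ r k < 64 :=
  xor_lt (xor_lt (xor_lt hd hr) (traceB_lt hc)) (traceB_lt (mulB_lt _ _))

theorem mem_eightList : ∀ n < 64, powB n 8 = n → n ∈ eightList := by decide +kernel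

variable (hM : Model θ)
include hM

theorem phi_traceB {w : ℕ} (hw : w < 64) :
    phi θ (traceB w) = phi θ w + phi θ w ^ 8 := by
  rw [traceB, phi_xor hM.two, hM.phi_powB hw (by norm_num)]

theorem topVal_sound {v s : ℕ} (hv : v < 64) (hv0 : v ≠ 0) (hs : s < 64) :
    phi θ (topVal v s) = phi θ s * phi θ v + phi θ betaB * ((phi θ v) ^ 8)⁻¹ := by
  obtain ⟨he, hlt⟩ := expB_logB v hv hv0
  rw [topVal, phi_xor hM.two, hM.phi_mulB hs hv,
    hM.phi_mulB (by decide +kernel) (expB_lt _), hM.phi_expB]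
  congr 2
  refine eq_inv_of_mul_eq_one_left ?_
  rw [← he, hM.phi_expB, logB_expB, ← pow_mul, ← pow_add,
    show 504 - 8 * (logB v % 63) + logB v * 8 = 63 * 8 by
      rw [Nat.mod_eq_of_lt hlt]; omega,
    pow_mul, pow_sixty_three hM.card hM.gam_ne, one_pow]

variable {c β C : E} {Y d : E → E} {e : ℕ}

theorem pow_twentyone_of_three {D : ℕ} (hD : D % 3 = 0) :
    ((1 + θ ^ 2 : E) ^ D) ^ 21 = 1 := by
  obtain ⟨m, rfl⟩ := Nat.dvd_of_mod_eq_zero hD
  rw [← pow_mul, show 3 * m * 21 = 63 * m by ring, pow_mul,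
    pow_sixty_three hM.card hM.gam_ne, one_pow]

theorem topB_sound (h : Eqs c (phi θ betaB) C Y d e) {reps : List (ℕ × ℕ × ℕ)}
    (hreps : ∀ r ∈ reps, Valid θ Y d r) {x y v : ℕ} (hx : x < 64) (hx0 : x ≠ 0) (hy : y < 64)
    (hv : topB e reps x y = some v) :
    phi θ v = top Y d (phi θ betaB) (phi θ x) (phi θ y) := by
  unfold topB at hv
  split at hv
  · simp at hv
  · rename_i r hr
    have hp := List.find?_some hr
    have hval := hreps r (List.mem_of_find?_eq_some hr)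
    simp only [beq_iff_eq] at hp
    obtain ⟨hex, hlx⟩ := expB_logB x hx hx0
    generalize hD : logB x + 63 - r.1 = D at hv hp
    obtain rfl : _ = v := Option.some.inj hv
    have hlog : (1 + θ ^ 2 : E) ^ D * (1 + θ ^ 2) ^ r.1 = phi θ x := by
      rw [← pow_add, show D + r.1 = logB x + 63 by have := hval.log_lt; omega, pow_add,
        pow_sixty_three hM.card hM.gam_ne, mul_one, ← hM.phi_expB, hex]
    have hξ : ((1 + θ ^ 2 : E) ^ D) ^ 21 = 1 := pow_twentyone_of_three hM hp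
    have hne : (1 + θ ^ 2 : E) ^ r.1 ≠ 0 := pow_ne_zero _ hM.gam_ne
    have hYx : phi θ (mulB (expB (e * D)) r.2.1) = Y (phi θ x) := by
      rw [hM.phi_mulB (expB_lt _) hval.row_lt, hM.phi_expB, hval.row, mul_comm e D, pow_mul,
        ← h.rowEq _ _ hξ hne, hlog]
    have hdx : phi θ (mulB (expB (3 * D)) r.2.2) = d (phi θ x) := by
      rw [hM.phi_mulB (expB_lt _) hval.shift_lt, hM.phi_expB, hval.shift, mul_comm 3 D, pow_mul,
        ← h.shiftEq _ _ hξ hne, hlog]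
    have hne0 : mulB (expB (e * D)) r.2.1 ≠ 0 := fun h0 => by
      rw [h0, phi_zero] at hYx
      exact h.ne _ (hM.phi_ne_zero hx hx0) hYx.symm
    rw [topVal_sound hM (mulB_lt _ _) hne0 (xor_lt hy (mulB_lt _ _)), phi_xor hM.two, hYx, hdx]
    rfl

/-- The point of a class is a point of the line, so it satisfies its equation. -/
theorem point_sound {c' : ℕ} (hc : c' < 64) (h : Eqs (phi θ c') (phi θ betaB) C Y d e)
    {d₀ : ℕ} (hd₀ : Valid θ Y d (0, 1, d₀)) {reps : List (ℕ × ℕ × ℕ)}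
    (hreps : ∀ r ∈ reps, Valid θ Y d r) {r : ℕ × ℕ × ℕ} (hr : Valid θ Y d r) {k v : ℕ}
    (hk : (r.1 + 21 * k) % 63 ≠ 0)
    (hv : topB e reps (pointX r k) (pointY c' d₀ r k) = some v) : phi θ v = C := by
  have hl : expB (r.1 + 21 * k) ≠ 1 := fun h0 => hk (by
    rw [← logB_expB, h0]; decide +kernel)
  have hx0 : pointX r k ≠ 0 := fun h0 => hl (Nat.xor_eq_zero_iff.1 h0).symm
  have hxlt : pointX r k < 64 := xor_lt (by norm_num) (expB_lt _)
  rw [topB_sound hM h hreps hxlt hx0 (pointY_lt hc hd₀.shift_lt hr.shift_lt) hv]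
  have hξ : ((1 + θ ^ 2 : E) ^ (21 * k)) ^ 21 = 1 := pow_twentyone_of_three hM (by omega)
  have hne : (1 + θ ^ 2 : E) ^ r.1 ≠ 0 := pow_ne_zero _ hM.gam_ne
  have hxk : (1 + θ ^ 2 : E) ^ (21 * k) * (1 + θ ^ 2) ^ r.1 = phi θ (expB (r.1 + 21 * k)) := by
    rw [hM.phi_expB, ← pow_add, Nat.add_comm]
  have hd1 : d 1 = phi θ d₀ := by
    have := hd₀.shift
    rwa [pow_zero, eq_comm] at this
  have hdx : d (phi θ (expB (r.1 + 21 * k))) = phi θ r.2.2 := by
    rw [← hxk, h.shiftEq _ _ hξ hne, hr.shift, ← pow_mul,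
      show 21 * k * 3 = 63 * k by ring, pow_mul, pow_sixty_three hM.card hM.gam_ne, one_pow,
      one_mul]
  have h9 : (Y (phi θ (expB (r.1 + 21 * k)))) ^ 9 = 1 := by
    rw [← hxk, h.rowEq _ _ hξ hne, mul_pow, hr.nine, mul_one, ← pow_mul, ← pow_mul,
      show 21 * k * (e * 9) = 63 * (3 * k * e) by ring, pow_mul,
      pow_sixty_three hM.card hM.gam_ne, one_pow]
  have hline := h.line (phi θ (expB (r.1 + 21 * k))) (hM.phi_ne_zero (expB_lt _) (expB_ne_zero _))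
    (fun h0 => hl (hM.phi_inj (expB_lt _) (by norm_num) (h0.trans phi_one.symm))) h9
  rw [← hline, pointX, pointY, phi_xor hM.two, phi_xor hM.two, phi_xor hM.two, phi_xor hM.two,
    phi_one, phi_traceB hM hc, phi_traceB hM (mulB_lt _ _), hM.phi_mulB hc (expB_lt _), hd1, hdx]
  simp [bil]

theorem okPoint_true {c' : ℕ} (hc : c' < 64) (h : Eqs (phi θ c') (phi θ betaB) C Y d e)
    {d₀ : ℕ} (hd₀ : Valid θ Y d (0, 1, d₀)) {reps : List (ℕ × ℕ × ℕ)}
    (hreps : ∀ r ∈ reps, Valid θ Y d r) {r : ℕ × ℕ × ℕ} (hr : Valid θ Y d r) {k Cn : ℕ}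
    (hk : (r.1 + 21 * k) % 63 ≠ 0) (hCn : Cn < 64) (hC : phi θ Cn = C) :
    okPoint c' e d₀ Cn reps r k = true := by
  unfold okPoint
  split
  · rfl
  · rename_i v hv
    have hvlt : v < 64 := by
      unfold topB at hv
      split at hv
      · simp at hv
      · rw [← Option.some.inj hv]
        exact xor_lt (mulB_lt _ _) (mulB_lt _ _)
    rw [beq_iff_eq]
    exact hM.phi_inj hvlt hCn ((point_sound hM hc h hd₀ hreps hr hk hv).trans hC.symm)

theorem okRep_true {c' : ℕ} (hc : c' < 64) (h : Eqs (phi θ c') (phi θ betaB) C Y d e)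
    {d₀ : ℕ} (hd₀ : Valid θ Y d (0, 1, d₀)) {reps : List (ℕ × ℕ × ℕ)}
    (hreps : ∀ r ∈ reps, Valid θ Y d r) {r : ℕ × ℕ × ℕ} (hr : Valid θ Y d r) {Cn : ℕ}
    (hk : r.1 % 3 ≠ 0) (hCn : Cn < 64) (hC : phi θ Cn = C) :
    okRep c' e d₀ Cn reps r = true := by
  simp only [okRep, Bool.and_eq_true]
  exact ⟨okPoint_true hM hc h hd₀ hreps hr (by omega) hCn hC,
    okPoint_true hM hc h hd₀ hreps hr (by omega) hCn hC,
    okPoint_true hM hc h hd₀ hreps hr (by omega) hCn hC⟩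

/-- Row values of one residue class of logarithms differ by a 21st root of unity. -/
theorem pow_twentyone_eq (h : Eqs c β C Y d e) {a b : ℕ} (hb : b < 63)
    (hab : (a + 63 - b) % 3 = 0) :
    (Y ((1 + θ ^ 2) ^ a)) ^ 21 = (Y ((1 + θ ^ 2) ^ b)) ^ 21 := by
  have hξ := pow_twentyone_of_three hM hab
  have ha : (1 + θ ^ 2 : E) ^ a = (1 + θ ^ 2) ^ (a + 63 - b) * (1 + θ ^ 2) ^ b := by
    rw [← pow_add, show a + 63 - b + b = a + 63 by omega, pow_add,
      pow_sixty_three hM.card hM.gam_ne, mul_one]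
  rw [ha, h.rowEq _ _ hξ (pow_ne_zero _ hM.gam_ne), mul_pow, ← pow_mul _ e 21, mul_comm e 21,
    pow_mul _ 21 e, hξ, one_pow, one_mul]

theorem exists_rep (h : Eqs c β C Y d e) {y : ℕ} (hy : y < 64) (hy9 : phi θ y ^ 9 = 1) :
    ∃ l n, Valid θ Y d (l, y, n) ∧ n ∈ eightList := by
  classical
  have hyne : phi θ y ≠ 0 := fun h0 => by rw [h0, zero_pow (by norm_num)] at hy9; exact zero_ne_one hy9
  let f : {x : E // x ≠ 0} → {x : E // x ≠ 0} := fun x => ⟨Y x, h.ne _ x.2⟩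
  have hf : Function.Injective f := fun x x' hxx =>
    Subtype.ext (h.inj _ _ x.2 x'.2 (congrArg Subtype.val hxx))
  obtain ⟨⟨x, hx⟩, hxy⟩ := Finite.injective_iff_surjective.1 hf ⟨_, hyne⟩
  have hYx : Y x = phi θ y := congrArg Subtype.val hxy
  obtain ⟨l, hl, rfl⟩ := hM.exists_log hx
  obtain ⟨n, hn, hdn⟩ := hM.phi_surj (d ((1 + θ ^ 2) ^ l))
  refine ⟨l, n, ⟨hl, hy, hn, hYx.symm, hdn, by rw [hYx, hy9]⟩, ?_⟩
  have h8 := h.sub _ hx
  rw [← hdn, ← hM.phi_powB hn (by norm_num)] at h8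
  exact mem_eightList n hn (hM.phi_inj (powB_lt _ _) hn h8)

theorem check_false {c' : ℕ} (hc : c' < 64) (h : Eqs (phi θ c') (phi θ betaB) C Y d e) :
    check c' e = false := by
  obtain ⟨l₁, d₁, hr₁, hd₁⟩ := exists_rep hM h (y := 2) (by norm_num) (by
    rw [show (2 : ℕ) = mulTheta 1 by decide +kernel, phi_mulTheta hM.two hM.root (by norm_num),
      phi_one, mul_one, hM.theta_nine])
  obtain ⟨l₂, d₂, hr₂, hd₂⟩ := exists_rep hM h (y := 4) (by norm_num) (by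
    rw [show (4 : ℕ) = mulTheta (mulTheta 1) by decide +kernel,
      phi_mulTheta hM.two hM.root (by decide +kernel),
      phi_mulTheta hM.two hM.root (by norm_num), phi_one, mul_one, mul_pow, hM.theta_nine,
      one_mul])
  have hθ : phi θ 2 = θ := by
    rw [show (2 : ℕ) = mulTheta 1 by decide +kernel, phi_mulTheta hM.two hM.root (by norm_num),
      phi_one, mul_one]
  have hθ2 : phi θ 4 = θ ^ 2 := by
    rw [show (4 : ℕ) = mulTheta 2 by decide +kernel, phi_mulTheta hM.two hM.root (by norm_num),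
      hθ, sq]
  have h1 : Y ((1 + θ ^ 2) ^ l₁) = θ := hr₁.row.symm.trans hθ
  have h2 : Y ((1 + θ ^ 2) ^ l₂) = θ ^ 2 := hr₂.row.symm.trans hθ2
  have h9 := hM.theta_nine
  have hl₁ : l₁ % 3 ≠ 0 := fun h0 => hM.theta_three_ne (by
    have := pow_twentyone_eq hM h (a := l₁) (b := 0) (by norm_num) (by omega)
    rw [h1, pow_zero, h.one, one_pow] at this
    linear_combination this - (θ ^ 12 + θ ^ 3) * h9)
  have hl₂ : l₂ % 3 ≠ 0 := fun h0 => hM.theta_three_ne (by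
    have := pow_twentyone_eq hM h (a := l₂) (b := 0) (by norm_num) (by omega)
    rw [h2, pow_zero, h.one, one_pow, ← pow_mul] at this
    have h6 : θ ^ 6 = 1 := by
      linear_combination this - (θ ^ 33 + θ ^ 24 + θ ^ 15 + θ ^ 6) * h9
    linear_combination h9 - θ ^ 3 * h6)
  have hl₁₂ : (l₂ + 63 - l₁) % 3 ≠ 0 := fun h0 => hM.theta_three_ne (by
    have := pow_twentyone_eq hM h (a := l₂) (b := l₁) hr₁.log_lt h0
    rw [h2, h1, ← pow_mul] at this
    have h63 : θ ^ 6 = θ ^ 3 := by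
      linear_combination this - (θ ^ 33 + θ ^ 24 + θ ^ 15 + θ ^ 6) * h9 +
        (θ ^ 12 + θ ^ 3) * h9
    linear_combination h9 - θ ^ 3 * h63 - h63)
  obtain ⟨n₀, hn₀, hd1⟩ := hM.phi_surj (d 1)
  have hr₀ : Valid θ Y d (0, 1, n₀) := by
    refine ⟨by norm_num, by norm_num, hn₀, ?_, ?_, ?_⟩ <;> simp [h.one, phi_one, hd1]
  have hd₀ : n₀ ∈ eightList := by
    have h8 := h.sub 1 one_ne_zero
    rw [← hd1, ← hM.phi_powB hn₀ (by norm_num)] at h8
    exact mem_eightList n₀ hn₀ (hM.phi_inj (powB_lt _ _) hn₀ h8)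
  obtain ⟨Cn, hv⟩ : ∃ v, topB e [(0, 1, n₀)] (pointX (0, 1, n₀) 1) (pointY c' n₀ (0, 1, n₀) 1) =
      some v := by
    unfold topB
    rw [show (pointX (0, 1, n₀) 1) = 1 ^^^ expB 21 from rfl]
    simp [show (logB (1 ^^^ expB 21) + 63) % 3 = 0 by decide +kernel]
  have hC : phi θ Cn = C := point_sound hM hc h hr₀ (by simp [hr₀]) hr₀ (by norm_num) hv
  have hCn : Cn < 64 := by
    unfold topB at hv
    split at hv
    · simp at hv
    · rw [← Option.some.inj hv]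
      exact xor_lt (mulB_lt _ _) (mulB_lt _ _)
  have hfirst : firstTop c' e n₀ = Cn := by rw [firstTop, hv]; rfl
  have hA : okPoint c' e n₀ Cn [(0, 1, n₀)] (0, 1, n₀) 2 = true :=
    okPoint_true hM hc h hr₀ (by simp [hr₀]) hr₀ (by norm_num) hCn hC
  have hB := okRep_true hM hc h hr₀ (reps := [(0, 1, n₀), (l₁, 2, d₁)]) (by simp [hr₀, hr₁]) hr₁
    hl₁ hCn hC
  have hB' := okRep_true hM hc h hr₀ (reps := [(0, 1, n₀), (l₁, 2, d₁), (l₂, 4, d₂)])
    (by simp [hr₀, hr₁, hr₂]) hr₁ hl₁ hCn hC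
  have hC' := okRep_true hM hc h hr₀ (reps := [(0, 1, n₀), (l₁, 2, d₁), (l₂, 4, d₂)])
    (by simp [hr₀, hr₁, hr₂]) hr₂ hl₂ hCn hC
  have h3 : checkThree c' e n₀ Cn l₁ d₁ = false := by
    refine List.all_eq_false.2 ⟨l₂, List.mem_range.2 hr₂.log_lt, ?_⟩
    have : (eightList.all fun d' =>
      !(okRep c' e n₀ Cn [(0, 1, n₀), (l₁, 2, d₁), (l₂, 4, d')] (l₁, 2, d₁) &&
        okRep c' e n₀ Cn [(0, 1, n₀), (l₁, 2, d₁), (l₂, 4, d')] (l₂, 4, d'))) = false :=
      List.all_eq_false.2 ⟨d₂, hd₂, by simp [hB', hC']⟩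
    simp only [Bool.or_eq_true, beq_iff_eq, hl₂, hl₁₂, this, false_or, Bool.false_eq_true,
      not_false_eq_true]
  have h4 : checkTwo c' e n₀ Cn = false := by
    refine List.all_eq_false.2 ⟨l₁, List.mem_range.2 hr₁.log_lt, ?_⟩
    have : (eightList.all fun d' =>
      !(okRep c' e n₀ Cn [(0, 1, n₀), (l₁, 2, d')] (l₁, 2, d')) ||
        checkThree c' e n₀ Cn l₁ d') = false :=
      List.all_eq_false.2 ⟨d₁, hd₁, by simp [hB, h3]⟩
    simp only [Bool.or_eq_true, beq_iff_eq, hl₁, this, false_or, Bool.false_eq_true,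
      not_false_eq_true]
  exact List.all_eq_false.2 ⟨n₀, hd₀, by simp [hfirst, hA, h4]⟩

end Cfsg.Agent.RankOneClass.UniEight
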